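import Cfsg.Agent.Lib.Invol.QuasiDihedralQuat
import Cfsg.Agent.Lib.Invol.BrauerSuzuki
import Cfsg.Agent.S0112
import Cfsg.Agent.S0115
import Cfsg.Agent.S0225
import Cfsg.Agent.S4399

/-!
A simple group with a self-centralizing cyclic subgroup of order four has dihedral Sylow
2-subgroups of order eight.
-/

namespace Cfsg.Agent.Invol.SmallCent

variable {G : Type*} [Group G] [Finite G]

theorem not_comm_of_simple [IsSimpleGroup G] (hG : ¬ IsCyclic G) : ¬ IsMulCommutative G := fun h =>
  hG (@IsSimpleGroup.isCyclic G { (inferInstance : Group G) with mul_comm := h.is_comm.comm } _)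

theorem center_eq_bot [IsSimpleGroup G] (hG : ¬ IsCyclic G) : Subgroup.center G = ⊥ :=
  ((inferInstance : (Subgroup.center G).Normal).eq_bot_or_eq_top).resolve_right fun h =>
    not_comm_of_simple hG ⟨⟨fun a b => (Subgroup.mem_center_iff.1 (h ▸ Subgroup.mem_top b) a)⟩⟩

/-- A simple group of even order has a four-group. -/
theorem exists_klein [IsSimpleGroup G] (hG : ¬ IsCyclic G) (he : Even (Nat.card G)) :
    ∃ E : Subgroup G, IsKleinFour E := by
  by_contra hne
  push Not at hne
  obtain ⟨z, hz, N, hN, hodd, hc⟩ := Cfsg.Agent.S0225.result he hne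
  rcases hN.eq_bot_or_eq_top with rfl | rfl
  · have hzc : z ∈ Subgroup.center G := Subgroup.mem_center_iff.2 fun g => by
      have h1 := hc g
      rw [Subgroup.mem_bot, mul_inv_eq_one, mul_inv_eq_iff_eq_mul] at h1
      exact h1.symm
    rw [center_eq_bot hG, Subgroup.mem_bot] at hzc
    rw [hzc, orderOf_one] at hz
    omega
  · rw [Subgroup.card_top] at hodd
    exact (Nat.not_even_iff_odd.2 hodd) he

theorem not_index_two [IsSimpleGroup G] (hG : ¬ IsCyclic G) (K : Subgroup G) : K.index ≠ 2 := by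
  intro hK
  haveI := Subgroup.normal_of_index_eq_two hK
  rcases (inferInstance : K.Normal).eq_bot_or_eq_top with rfl | rfl
  · rw [Subgroup.index_bot] at hK
    exact hG (isCyclic_of_prime_card (p := 2) hK)
  · rw [Subgroup.index_top] at hK
    omega

theorem quaternion_no_klein {m : ℕ} [NeZero m] (T : Subgroup (QuaternionGroup m)) : ¬ IsKleinFour T := by
  intro hT
  have h4 : Nat.card T = 4 := IsKleinFour.card_four
  classical
  cases nonempty_fintype T
  have hsub : ∀ x : T, x = 1 ∨ (x : QuaternionGroup m) = QuaternionGroup.a (m : ZMod (2 * m)) :=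
    fun x => (Cfsg.Agent.BS.quaternion_sq_one (by
      rw [pow_two]; exact congrArg Subtype.val (IsKleinFour.mul_self x))).imp_left fun e => Subtype.ext e
  have : Fintype.card T ≤ 2 := by
    refine le_trans (Fintype.card_le_of_injective (fun x : T => decide (x = 1)) fun x y e => ?_) (by simp)
    simp only [decide_eq_decide] at e
    rcases hsub x with h | h <;> rcases hsub y with h' | h'
    · rw [h, h']
    · rw [h]; exact ((e.1 h)).symm
    · rw [h']; exact e.2 h'
    · exact Subtype.ext (h.trans h'.symm)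
  rw [Nat.card_eq_fintype_card] at h4
  omega

/-- The Sylow 2-subgroups are dihedral of order eight. -/
theorem sylow_dihedral [IsSimpleGroup G] (hG : ¬ IsCyclic G) {w : G} (hw : orderOf w = 4)
    (hC : Subgroup.centralizer ({w} : Set G) = Subgroup.zpowers w) :
    ∃ S : Sylow 2 G, w ∈ (S : Subgroup G) ∧
      Nonempty (↥(S : Subgroup G) ≃* DihedralGroup 4) := by
  haveI : Fact (Nat.Prime 2) := ⟨Nat.prime_two⟩
  have hpw : IsPGroup 2 (Subgroup.zpowers w) :=
    IsPGroup.of_card (n := 2) (by rw [Nat.card_zpowers, hw]; norm_num)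
  obtain ⟨S, hS⟩ := hpw.exists_le_sylow
  have hwS : w ∈ (S : Subgroup G) := hS (Subgroup.mem_zpowers w)
  have he : Even (Nat.card G) := even_iff_two_dvd.2
    ((show 2 ∣ orderOf w from hw ▸ ⟨2, rfl⟩).trans (orderOf_dvd_natCard w))
  refine ⟨S, hwS, ?_⟩
  set v : ↥(S : Subgroup G) := ⟨w, hwS⟩ with hv
  have hvo : orderOf v = 4 := by rw [hv, Subgroup.orderOf_mk, hw]
  have hself : ∀ x : ↥(S : Subgroup G), x * v = v * x → x ∈ Subgroup.zpowers v := by
    intro x hx
    have h1 : (x : G) ∈ Subgroup.zpowers w :=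
      hC ▸ Subgroup.mem_centralizer_singleton_iff.2 (congrArg Subtype.val hx)
    obtain ⟨k, hk⟩ := Subgroup.mem_zpowers_iff.1 h1
    exact Subgroup.mem_zpowers_iff.2 ⟨k, Subtype.ext (by simp [hv, hk])⟩
  obtain ⟨E, hE⟩ := exists_klein hG he
  obtain ⟨n, hn⟩ := S.isPGroup'.exists_card_eq
  -- the Sylow subgroup is not cyclic, hence of order at least eight
  have hEp : IsPGroup 2 E := IsPGroup.of_card (n := 2) (by rw [hE.card_four]; norm_num)
  obtain ⟨Q, hQ⟩ := hEp.exists_le_sylow
  let eQ : ↥(Q : Subgroup G) ≃* ↥(S : Subgroup G) := Sylow.equiv Q S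
  have hTK : IsKleinFour ((E.subgroupOf (Q : Subgroup G)).map eQ.toMonoidHom) := by
    have e : E ≃* ↥((E.subgroupOf (Q : Subgroup G)).map eQ.toMonoidHom) :=
      (Subgroup.subgroupOfEquivOfLe hQ).symm.trans
        ((E.subgroupOf (Q : Subgroup G)).equivMapOfInjective _ eQ.injective)
    exact ⟨by rw [← Nat.card_congr e.toEquiv]; exact hE.card_four,
      by rw [← Monoid.exponent_eq_of_mulEquiv e]; exact hE.exponent_two⟩
  set T := (E.subgroupOf (Q : Subgroup G)).map eQ.toMonoidHom with hT
  have hn3 : 3 ≤ n := by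
    have h4 : 4 ≤ 2 ^ n := by
      rw [← hn, ← hvo, ← Nat.card_zpowers]
      exact (Subgroup.zpowers v).card_le_card_group
    have h2 : 2 ≤ n := by
      by_contra h
      have : 2 ^ n ≤ 2 ^ 1 := Nat.pow_le_pow_right (by norm_num) (by omega)
      omega
    rcases h2.eq_or_lt with rfl | h
    · exfalso
      have htop : Subgroup.zpowers v = ⊤ := Subgroup.eq_top_of_card_eq _ (by
        rw [Nat.card_zpowers, hvo, hn]; norm_num)
      have hTtop : T = ⊤ := Subgroup.eq_top_of_card_eq _ (by rw [hTK.card_four, hn]; norm_num)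
      have h5 : v * v = 1 := congrArg Subtype.val
        (IsKleinFour.mul_self (⟨v, hTtop ▸ Subgroup.mem_top v⟩ : T))
      have h6 := orderOf_le_of_pow_eq_one (by norm_num) (show v ^ 2 = 1 by rw [pow_two, h5])
      omega
    · exact h
  have hcA : Subgroup.centralizer ((Subgroup.zpowers v : Subgroup ↥(S : Subgroup G)) : Set ↥(S : Subgroup G)) =
      Subgroup.zpowers v := by
    refine le_antisymm (fun x hx => hself x ?_) ?_
    · exact (Subgroup.mem_centralizer_iff.1 hx v (Subgroup.mem_zpowers v)).symm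
    · intro x hx
      obtain ⟨i, rfl⟩ := Subgroup.mem_zpowers_iff.1 hx
      refine Subgroup.mem_centralizer_iff.2 fun y hy => ?_
      obtain ⟨j, rfl⟩ := Subgroup.mem_zpowers_iff.1 hy
      exact ((Commute.refl v).zpow_zpow j i).eq
  have hclass := Cfsg.Agent.S0112.result (p := 2) n hn (Subgroup.zpowers v)
    (by rw [Nat.card_zpowers, hvo]; norm_num) hcA
  have hK4 := (Cfsg.Agent.S0115.result n hn3 hn).1 hclass
  have hab : Nat.card (Abelianization ↥(S : Subgroup G)) = 4 := hK4.card_four
  have hexp : ∀ x : Abelianization ↥(S : Subgroup G), x ^ 2 = 1 := fun x => by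
    rw [pow_two]; exact @IsKleinFour.mul_self _ _ hK4 x
  rcases Cfsg.Agent.S4399.result S.isPGroup' hab hexp with h4 | ⟨k, ⟨e⟩⟩ | ⟨k, hk, a, b, ha, hb, hab'⟩ | ⟨k, ⟨e⟩⟩
  · exfalso
    rw [hn] at h4
    have : 2 ^ 3 ≤ 2 ^ n := Nat.pow_le_pow_right (by norm_num) hn3
    omega
  · haveI : NeZero (2 ^ (k + 2)) := ⟨by positivity⟩
    suffices h : k = 0 by subst h; exact ⟨e⟩
    rcases he' : e v with i | i
    · have h1 : e.symm (DihedralGroup.r 1) ∈ Subgroup.zpowers v := by
        refine hself _ (e.injective ?_)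
        rw [map_mul, map_mul, he', e.apply_symm_apply]
        simp [add_comm]
      have h2 : 2 ^ (k + 2) ∣ 4 := by
        obtain ⟨j, hj⟩ := Subgroup.mem_zpowers_iff.1 h1
        rw [← hvo, ← DihedralGroup.orderOf_r_one (n := 2 ^ (k + 2)), ← e.symm.orderOf_eq, ← hj]
        exact orderOf_dvd_of_pow_eq_one (by
          rw [← zpow_natCast, ← zpow_mul, mul_comm, zpow_mul, zpow_natCast, pow_orderOf_eq_one,
            one_zpow])
      have h3 := (Nat.pow_dvd_pow_iff_le_right (show 1 < 2 by norm_num)).1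
        (show 2 ^ (k + 2) ∣ 2 ^ 2 by simpa using h2)
      omega
    · exfalso
      have h1 := e.orderOf_eq v
      rw [he', DihedralGroup.orderOf_sr, hvo] at h1
      omega
  · exfalso
    have hQD : Cfsg.IsQuasiDihedral ↥(S : Subgroup G) := ⟨k + 3, by omega, hk, a, b, ha, hb, by
      rw [hab', show k + 3 - 1 = k + 2 by omega]⟩
    obtain ⟨m, x, y, h⟩ := Invol.exists_qd hQD
    have hx8 : 8 ≤ orderOf x := by
      rw [h.ox]
      calc 8 = 2 ^ 3 := by norm_num
        _ ≤ _ := Nat.pow_le_pow_right (by norm_num) h.hn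
    have hrot : ∀ i : ℤ, ¬ v = x ^ i := by
      intro i hi
      have h1 : x ∈ Subgroup.zpowers v := hself x (by rw [hi]; exact (Commute.self_zpow x i).eq)
      have h2 : orderOf x ∣ 4 := hvo ▸ orderOf_dvd_of_mem_zpowers h1
      have := Nat.le_of_dvd (by norm_num) h2
      omega
    obtain ⟨i, hi, hiv⟩ : ∃ i : ℤ, ¬ 2 ∣ i ∧ v = x ^ i * y := by
      rcases h.four_cases hvo with e | e | e
      exacts [absurd e (hrot _), absurd e (hrot _), e]
    have hFQ : Invol.QD.FusQ m x y := by
      by_contra hn'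
      obtain ⟨K, -, hK2, -⟩ := Invol.QD.exists_kernel (h.coatom 0) (h.index_coatom 0)
        (fun s t => h.respects_coatom_zero hn')
      exact not_index_two hG K hK2
    obtain ⟨r, hr⟩ := h.conj_mul_y (i := i) (j := 1) (by omega)
    rw [zpow_one, ← hiv] at hr
    have hconj : IsConj w ((x ^ Invol.qq m : ↥(S : Subgroup G)) : G) :=
      (Invol.QD.isConj_coe hr).trans hFQ
    obtain ⟨c, hc⟩ := isConj_iff.1 hconj
    have hxc : c⁻¹ * (x : G) * c ∈ Subgroup.zpowers w := by
      rw [← hC, Subgroup.mem_centralizer_singleton_iff]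
      have hcom : (x : G) * (c * w * c⁻¹) = (c * w * c⁻¹) * x := by
        rw [hc, ← Subgroup.coe_mul, ← Subgroup.coe_mul, (Commute.self_zpow x _).eq]
      calc c⁻¹ * (x : G) * c * w = c⁻¹ * ((x : G) * (c * w * c⁻¹)) * c := by group
        _ = _ := by rw [hcom]; group
    have h2 : orderOf (c⁻¹ * (x : G) * c) ∣ 4 := hw ▸ orderOf_dvd_of_mem_zpowers hxc
    rw [show c⁻¹ * (x : G) * c = MulAut.conj c⁻¹ (x : G) by simp, MulEquiv.orderOf_eq,
      Subgroup.orderOf_coe] at h2
    have := Nat.le_of_dvd (by norm_num) h2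
    omega
  · exfalso
    haveI : NeZero (2 ^ (k + 1)) := ⟨by positivity⟩
    refine quaternion_no_klein (T.map e.toMonoidHom) ?_
    have e' := T.equivMapOfInjective e.toMonoidHom e.injective
    exact ⟨by rw [← Nat.card_congr e'.toEquiv]; exact hTK.card_four,
      by rw [← Monoid.exponent_eq_of_mulEquiv e']; exact hTK.exponent_two⟩

end Cfsg.Agent.Invol.SmallCent
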