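import Cfsg.Agent.Lib.Invol.SmallCent.TwoSided
import Cfsg.Agent.Lib.Invol.D8Recognition
import Cfsg.Agent.S0495
import Cfsg.Agent.S0497
import Cfsg.Agent.S0984
import Cfsg.Agent.S3278
import Cfsg.Agent.S3331

/-!
Simple groups with an element whose centralizer has order at most four.
-/

namespace Cfsg.Agent.Invol.SmallCent

universe u

/-- The possible conclusions. -/
def Small (G : Type u) [Group G] : Prop :=
  Nonempty (G ≃* ↥(alternatingGroup (Fin 5))) ∨ Nonempty (G ≃* ↥(alternatingGroup (Fin 6))) ∨
    Nonempty (G ≃* ↥(alternatingGroup (Fin 7))) ∨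
    (∃ (F : Type) (_ : Field F) (_ : Fintype F), Fintype.card F = 7 ∧
      Nonempty (G ≃* Matrix.ProjectiveSpecialLinearGroup (Fin 2) F))

variable {G : Type u} [Group G] [Finite G]

theorem Setup.fix_swap {S : Sylow 2 G} {w τ : G} {L : Subgroup G} (h : Setup S w τ L) :
    fixA L (w * (w * τ)) = fixA L τ := by
  unfold fixA
  congr 2
  ext x
  simp only [Subgroup.mem_inf, mem_cent]
  refine and_congr_right fun hx => ?_
  have e : w * (w * τ) * x * (w * (w * τ))⁻¹ = τ * x * τ⁻¹ := by
    calc w * (w * τ) * x * (w * (w * τ))⁻¹ = w ^ 2 * (τ * x * τ⁻¹) * (w ^ 2)⁻¹ := by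
          rw [pow_two]; group
      _ = _ := by rw [← h.comm_t (h.normL h.mem_tau hx), mul_inv_cancel_right]
  rw [e]

theorem fact_seven : Fact (Nat.Prime 7) := ⟨by norm_num⟩

/-- The main case. -/
theorem small_of_self_four [IsSimpleGroup G] (hG : ¬ IsCyclic G) {w : G} (hw : orderOf w = 4)
    (hC : Subgroup.centralizer ({w} : Set G) = Subgroup.zpowers w) : Small G := by
  classical
  haveI : Fact (Nat.Prime 2) := ⟨Nat.prime_two⟩
  haveI := fact_seven
  obtain ⟨S, τ, L, h⟩ := exists_setup hG hw hC
  have hone : ∀ {τ : G}, Setup S w τ L → 1 < fixA L τ → fixA L (w * τ) = 1 → Small G := by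
    intro τ h ha hb
    obtain ⟨k, δ, u, v, hk, hδ, hsum, hg, huv, hu8, hv8, himp⟩ := h.exists_params
    obtain ⟨hk2, hu, hv⟩ := himp ha
    have hodd : Odd (fixA L τ) := h.odd_A
    have hgm : Nat.card G = 8 * (S : Subgroup G).index := by
      rw [← (S : Subgroup G).card_mul_index, h.data.card]
    have hm : Odd (S : Subgroup G).index := Nat.odd_iff.2 (Nat.two_dvd_ne_zero.1 S.not_dvd_index)
    rw [hb, Nat.cast_one] at hg huv
    have h2520 := final_case (a := (fixA L τ : ℤ)) (k := k) (δ := δ) (g := Nat.card G)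
      (m := (S : Subgroup G).index) (by obtain ⟨r, hr⟩ := hodd; omega) (by exact_mod_cast hodd) hk hδ
      hk2 (by linear_combination hg) hgm hm hsum (by linear_combination huv) hu8 hv8 hu hv
    exact .inr (.inr (.inl (Cfsg.Agent.S0984.result h2520)))
  by_cases ha : 1 < fixA L τ
  · by_cases hb : 1 < fixA L (w * τ)
    · exfalso
      rcases le_total (fixA L τ) (fixA L (w * τ)) with hab | hab
      · exact h.not_two_sided ha hab
      · exact h.swap.not_two_sided hb (by rw [h.fix_swap]; exact hab)
    · exact hone h ha (le_antisymm (not_lt.1 hb) Nat.card_pos)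
  · by_cases hb : 1 < fixA L (w * τ)
    · exact hone h.swap hb (by rw [h.fix_swap]; exact le_antisymm (not_lt.1 ha) Nat.card_pos)
    · have hL : Nat.card L = 1 := by
        rw [h.card_L]
        show fixA L τ * fixA L (w * τ) = 1
        rw [le_antisymm (not_lt.1 ha) Nat.card_pos, le_antisymm (not_lt.1 hb) Nat.card_pos]
      have hCS : Subgroup.centralizer ({w ^ 2} : Set G) = (S : Subgroup G) :=
        (Subgroup.eq_of_le_of_card_ge h.odd2.ple (by rw [h.card_centralizer, hL, h.data.card])).symm
      have hP : Nonempty (↥(S : Subgroup G) ≃* DihedralGroup 4) := by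
        obtain ⟨S', -, ⟨e⟩⟩ := sylow_dihedral hG hw hC
        exact ⟨(Sylow.equiv S S').trans e⟩
      obtain ⟨e⟩ := hP
      obtain ⟨-, h168 | h360⟩ := Cfsg.Agent.Invol.D8Order.simple_and_order h.ot
        ((MulEquiv.subgroupCongr hCS).trans e) (not_index_two hG)
      · exact .inr (.inr (.inr ⟨ZMod 7, inferInstance, inferInstance, ZMod.card 7,
          Cfsg.Agent.S0495.result h168 (ZMod.card 7)⟩))
      · exact .inr (.inl (Cfsg.Agent.S0497.result h360))

theorem small_of_centralizer [IsSimpleGroup G] (hG : ¬ IsCyclic G) (w : G)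
    (hw : Nat.card ↥(Subgroup.centralizer ({w} : Set G)) ≤ 4) : Small G := by
  classical
  haveI : Fact (Nat.Prime 2) := ⟨Nat.prime_two⟩
  haveI := fact_seven
  set C := Subgroup.centralizer ({w} : Set G) with hC
  have hwC : w ∈ C := Subgroup.mem_centralizer_singleton_iff.2 rfl
  have hdvd : orderOf w ∣ Nat.card C := Subgroup.orderOf_dvd_natCard _ hwC
  have hzC : Subgroup.zpowers w ≤ C := Subgroup.zpowers_le.2 hwC
  have ho : orderOf w ≤ 4 := (Nat.le_of_dvd Nat.card_pos hdvd).trans hw
  have ho0 := orderOf_pos w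
  rcases (show orderOf w = 1 ∨ orderOf w = 2 ∨ orderOf w = 3 ∨ orderOf w = 4 by omega) with o | o | o | o
  · exfalso
    rw [orderOf_eq_one_iff] at o
    have htop : C = ⊤ := eq_top_iff.2 fun x _ => by
      rw [hC, o, Subgroup.mem_centralizer_singleton_iff, one_mul, mul_one]
    rw [htop, Subgroup.card_top] at hw
    have hpos : 0 < Nat.card G := Nat.card_pos
    rcases (show Nat.card G = 1 ∨ Nat.card G = 2 ∨ Nat.card G = 3 ∨ Nat.card G = 4 by omega) with g | g | g | g
    · haveI := (Nat.card_eq_one_iff_unique.1 g).1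
      exact hG inferInstance
    · exact hG (isCyclic_of_prime_card (p := 2) g)
    · haveI : Fact (Nat.Prime 3) := ⟨Nat.prime_three⟩
      exact hG (isCyclic_of_prime_card (p := 3) g)
    · exact not_comm_of_simple hG ⟨⟨fun a b =>
        (IsPGroup.commGroupOfCardEqPrimeSq (p := 2) (by rw [g]; norm_num)).mul_comm a b⟩⟩
  · -- an involution
    have h2 : 2 ∣ Nat.card C := o ▸ hdvd
    have hCpos : 0 < Nat.card C := Nat.card_pos
    have he : Even (Nat.card G) := even_iff_two_dvd.2 (o ▸ orderOf_dvd_natCard w)
    rcases (show Nat.card C = 2 ∨ Nat.card C = 4 by omega) with hc | hc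
    · exfalso
      have hCz : C = Subgroup.zpowers w := (Subgroup.eq_of_le_of_card_ge hzC (by
        rw [Nat.card_zpowers, o, hc])).symm
      obtain ⟨S, hS⟩ := (IsPGroup.of_card (p := 2) (n := 1) (by
        rw [Nat.card_zpowers, o, pow_one]) : IsPGroup 2 (Subgroup.zpowers w)).exists_le_sylow
      have hwS : w ∈ (S : Subgroup G) := hS (Subgroup.mem_zpowers w)
      haveI : Nontrivial ↥(S : Subgroup G) := ⟨⟨⟨w, hwS⟩, 1, fun e => by
        rw [show w = 1 from congrArg Subtype.val e, orderOf_one] at o
        omega⟩⟩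
      haveI : Nontrivial (Subgroup.center ↥(S : Subgroup G)) := S.isPGroup'.center_nontrivial
      obtain ⟨z, hz⟩ := exists_ne (1 : Subgroup.center ↥(S : Subgroup G))
      set z' : G := ((z : ↥(S : Subgroup G)) : G) with hz'
      have hzw : z' ∈ C := Subgroup.mem_centralizer_singleton_iff.2
        (congrArg Subtype.val (Subgroup.mem_center_iff.1 z.2 ⟨w, hwS⟩)).symm
      have hzeq : z' = w := by
        rw [hCz, mem_zpowers_iff_mem_range_orderOf, o] at hzw
        obtain ⟨i, hi, e⟩ := Finset.mem_image.1 hzw
        have := Finset.mem_range.1 hi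
        rcases (show i = 0 ∨ i = 1 by omega) with rfl | rfl
        · exact absurd (Subtype.ext (Subtype.ext (by rw [← hz', ← e]; simp))) hz
        · rw [← e, pow_one]
      have hSC : (S : Subgroup G) ≤ C := fun s hs => Subgroup.mem_centralizer_singleton_iff.2 (by
        rw [← hzeq]
        exact congrArg Subtype.val (Subgroup.mem_center_iff.1 z.2 ⟨s, hs⟩))
      obtain ⟨E, hE⟩ := exists_klein hG he
      obtain ⟨Q, hQ⟩ := (IsPGroup.of_card (p := 2) (n := 2) (by
        rw [hE.card_four]; norm_num) : IsPGroup 2 E).exists_le_sylow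
      have h4 := Subgroup.card_le_of_le hQ
      rw [hE.card_four, Nat.card_congr (Sylow.equiv Q S).toEquiv] at h4
      have h5 := Subgroup.card_le_of_le hSC
      omega
    · by_cases h4 : ∃ x ∈ C, orderOf x = 4
      · obtain ⟨x, hx, hxo⟩ := h4
        have hCx : Subgroup.zpowers x = C := Subgroup.eq_of_le_of_card_ge (Subgroup.zpowers_le.2 hx) (by
          rw [Nat.card_zpowers, hxo, hc])
        have hxw : x * x = w := by
          have h1 : w ∈ Subgroup.zpowers x := hCx ▸ hwC
          rw [mem_zpowers_iff_mem_range_orderOf, hxo] at h1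
          obtain ⟨i, hi, e⟩ := Finset.mem_image.1 h1
          have hi' := Finset.mem_range.1 hi
          have hpow : ∀ j, j = 1 ∨ j = 3 → orderOf (x ^ j) = 4 := fun j hj => by
            rw [orderOf_pow, hxo]
            rcases hj with rfl | rfl <;> rfl
          rcases (show i = 0 ∨ i = 1 ∨ i = 2 ∨ i = 3 by omega) with rfl | rfl | rfl | rfl
          · rw [← e, pow_zero, orderOf_one] at o; omega
          · rw [← e, hpow 1 (.inl rfl)] at o; omega
          · rw [← e, pow_two]
          · rw [← e, hpow 3 (.inr rfl)] at o; omega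
        refine small_of_self_four hG hxo (le_antisymm ?_ (Subgroup.zpowers_le.2
          (Subgroup.mem_centralizer_singleton_iff.2 rfl)))
        rw [hCx]
        intro y hy
        have hc' : Commute y x := Subgroup.mem_centralizer_singleton_iff.1 hy
        exact Subgroup.mem_centralizer_singleton_iff.2 (hxw ▸ (hc'.mul_right hc').eq)
      · have hK : IsKleinFour ↥C := by
          refine ⟨hc, ?_⟩
          haveI : Nontrivial C := Finite.one_lt_card_iff_nontrivial.1 (by omega)
          refine ((Nat.dvd_prime Nat.prime_two).1 (Monoid.exponent_dvd_of_forall_pow_eq_one ?_)).resolve_left ?_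
          · intro c
            have hd : orderOf c ∣ 4 := hc ▸ orderOf_dvd_natCard c
            rw [orderOf_dvd_iff_pow_eq_one.symm]
            have hm : orderOf c ∈ Nat.divisors 4 := Nat.mem_divisors.2 ⟨hd, by norm_num⟩
            have : orderOf c = 1 ∨ orderOf c = 2 ∨ orderOf c = 4 := by
              simpa [show Nat.divisors 4 = {1, 2, 4} by decide] using hm
            rcases this with e | e | e
            · rw [e]; exact one_dvd _
            · rw [e]
            · exact absurd ⟨c, c.2, by rw [Subgroup.orderOf_coe, e]⟩ h4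
          · intro hexp
            have h1 := Monoid.pow_exponent_eq_one (⟨w, hwC⟩ : C)
            rw [hexp, pow_one] at h1
            rw [show w = 1 from congrArg Subtype.val h1, orderOf_one] at o
            omega
        exact .inl (Cfsg.Agent.S3278.result w o C le_rfl hK
          (by rw [Subgroup.relIndex_self]; norm_num) (by rw [Subgroup.subgroupOf_self]; infer_instance))
  · -- an element of order three
    have hCz : C = Subgroup.zpowers w := (Subgroup.eq_of_le_of_card_ge hzC (by
      rw [Nat.card_zpowers, o]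
      obtain ⟨q, hq⟩ := hdvd
      rw [o] at hq
      omega)).symm
    have hcz : Subgroup.centralizer ((Subgroup.zpowers w : Subgroup G) : Set G) = Subgroup.zpowers w := by
      refine le_antisymm (fun x hx => hCz ▸ Subgroup.mem_centralizer_singleton_iff.2
        (Subgroup.mem_centralizer_iff.1 hx w (Subgroup.mem_zpowers w)).symm) fun x hx => ?_
      refine Subgroup.mem_centralizer_iff.2 fun y hy => ?_
      obtain ⟨i, rfl⟩ := Subgroup.mem_zpowers_iff.1 hx
      obtain ⟨j, rfl⟩ := Subgroup.mem_zpowers_iff.1 hy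
      exact ((Commute.refl w).zpow_zpow j i).eq
    rcases Cfsg.Agent.S3331.result (Subgroup.zpowers w) (by rw [Nat.card_zpowers, o]) hcz with
      ⟨N, hN, hnil, hcop, hquot⟩ | ⟨N, hN, hcomm, -, ⟨e⟩⟩ | e
    · exfalso
      rcases hN.eq_bot_or_eq_top with rfl | rfl
      · have eG : G ⧸ (⊥ : Subgroup G) ≃* G := QuotientGroup.quotientBot
        rcases hquot with h3 | ⟨⟨f⟩⟩
        · rw [Nat.card_congr eG.toEquiv] at h3
          haveI : Fact (Nat.Prime 3) := ⟨Nat.prime_three⟩
          exact hG (isCyclic_of_prime_card (p := 3) h3)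
        · refine not_index_two hG ((alternatingGroup (Fin 3)).comap (eG.symm.trans f).toMonoidHom) ?_
          rw [Subgroup.index_comap_of_surjective _ (eG.symm.trans f).surjective]
          exact alternatingGroup.index_eq_two
      · rw [Subgroup.card_top] at hcop
        exact hcop.symm.coprime_dvd_left (dvd_refl 3) |> fun h3 =>
          (Nat.prime_three.coprime_iff_not_dvd.1 h3) (o ▸ orderOf_dvd_natCard w)
    · rcases hN.eq_bot_or_eq_top with rfl | rfl
      · exact .inl ⟨QuotientGroup.quotientBot.symm.trans e⟩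
      · exfalso
        exact not_comm_of_simple hG ⟨⟨fun a b => congrArg Subtype.val
          (hcomm.is_comm.comm (⟨a, Subgroup.mem_top a⟩ : (⊤ : Subgroup G)) ⟨b, Subgroup.mem_top b⟩)⟩⟩
    · exact .inr (.inr (.inr ⟨ZMod 7, inferInstance, inferInstance, ZMod.card 7, e⟩))
  · -- an element of order four
    exact small_of_self_four hG o (Subgroup.eq_of_le_of_card_ge hzC (by
      rw [Nat.card_zpowers, o]; exact hw)).symm

end Cfsg.Agent.Invol.SmallCent
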