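import Mathlib

/-!
The order of a subgroup of odd order normalized by two commuting involutions in terms of the orders
of their fixed subgroups.
-/

namespace Cfsg.Agent.Invol.SmallCent

variable {G : Type*} [Group G] [Finite G]

/-- The square root in a subgroup of odd order. -/
noncomputable def sqr (R : Subgroup G) (x : G) : G := x ^ ((Nat.card R + 1) / 2)

theorem pow_card_of_mem {R : Subgroup G} {x : G} (hx : x ∈ R) : x ^ Nat.card R = 1 :=
  congrArg Subtype.val (pow_card_eq_one' (x := (⟨x, hx⟩ : R)))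

theorem sqr_mem {R : Subgroup G} {x : G} (hx : x ∈ R) : sqr R x ∈ R := R.pow_mem hx _

theorem sqr_mul_self {R : Subgroup G} (hR : Odd (Nat.card R)) {x : G} (hx : x ∈ R) :
    sqr R x * sqr R x = x := by
  obtain ⟨m, hm⟩ := hR
  have h1 := pow_card_of_mem hx
  rw [hm] at h1
  rw [sqr, ← pow_add, hm, show (2 * m + 1 + 1) / 2 + (2 * m + 1 + 1) / 2 = (2 * m + 1) + 1 by omega,
    pow_succ, h1, one_mul]

theorem eq_sqr {R : Subgroup G} (hR : Odd (Nat.card R)) {x y : G} (hy : y ∈ R) (h : y * y = x) :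
    y = sqr R x := by
  obtain ⟨m, hm⟩ := hR
  have h1 := pow_card_of_mem hy
  rw [hm] at h1
  rw [sqr, ← h, ← pow_two, ← pow_mul, hm,
    show 2 * ((2 * m + 1 + 1) / 2) = (2 * m + 1) + 1 by omega, pow_succ, h1, one_mul]

theorem conj_sqr (R : Subgroup G) (t x : G) : t * sqr R x * t⁻¹ = sqr R (t * x * t⁻¹) :=
  (conj_pow).symm

/-- The elements of `R` inverted by `t`. -/
def inverted (R : Subgroup G) (t : G) : Set G := {i | i ∈ R ∧ t * i * t⁻¹ = i⁻¹}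

theorem conj_conj {t : G} (ht : t * t = 1) (x : G) : t * (t * x * t⁻¹) * t⁻¹ = x := by
  calc _ = (t * t) * x * (t * t)⁻¹ := by group
    _ = _ := by rw [ht]; group

theorem mem_cent {t x : G} :
    x ∈ Subgroup.centralizer ({t} : Set G) ↔ t * x * t⁻¹ = x := by
  rw [Subgroup.mem_centralizer_singleton_iff, mul_inv_eq_iff_eq_mul]
  exact eq_comm

theorem card_eq_fixed_mul_inverted (R : Subgroup G) (hR : Odd (Nat.card R)) {t : G} (ht : t * t = 1)
    (hnt : ∀ x ∈ R, t * x * t⁻¹ ∈ R) :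
    Nat.card R = Nat.card ↥(R ⊓ Subgroup.centralizer ({t} : Set G)) * Nat.card (inverted R t) := by
  rw [← Nat.card_prod]
  refine (Nat.card_congr (Equiv.ofBijective (fun q : ↥(R ⊓ Subgroup.centralizer ({t} : Set G)) ×
    inverted R t => (⟨(q.1 : G) * (q.2 : G), R.mul_mem q.1.2.1 q.2.2.1⟩ : R)) ⟨?_, ?_⟩)).symm
  · rintro ⟨⟨c, hc⟩, ⟨i, hi⟩⟩ ⟨⟨c', hc'⟩, ⟨i', hi'⟩⟩ e
    have e' : c * i = c' * i' := congrArg Subtype.val e
    have key : ∀ {d j : G}, d ∈ R ⊓ Subgroup.centralizer ({t} : Set G) → j ∈ inverted R t →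
        (t * (d * j) * t⁻¹)⁻¹ * (d * j) = j * j := by
      intro d j hd hj
      have e1 : t * (d * j) * t⁻¹ = (t * d * t⁻¹) * (t * j * t⁻¹) := by group
      rw [e1, mem_cent.1 hd.2, hj.2]
      group
    have h1 := key hc hi
    rw [e', key hc' hi'] at h1
    have hii : i = i' := by
      exact (eq_sqr hR hi.1 h1.symm).trans (eq_sqr hR hi'.1 rfl).symm
    subst hii
    exact Prod.ext (Subtype.ext (mul_right_cancel e')) rfl
  · rintro ⟨x, hx⟩
    have hy : (t * x * t⁻¹)⁻¹ * x ∈ R := R.mul_mem (R.inv_mem (hnt x hx)) hx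
    set i := sqr R ((t * x * t⁻¹)⁻¹ * x) with hi
    have hii : i * i = (t * x * t⁻¹)⁻¹ * x := sqr_mul_self hR hy
    have hti : t * i * t⁻¹ = i⁻¹ := by
      rw [hi, conj_sqr]
      refine (eq_sqr hR (R.inv_mem (sqr_mem hy)) ?_).symm
      calc _ = ((sqr R ((t * x * t⁻¹)⁻¹ * x)) * sqr R ((t * x * t⁻¹)⁻¹ * x))⁻¹ := by group
        _ = (t * (t * x * t⁻¹) * t⁻¹)⁻¹ * (t * x * t⁻¹) := by
          rw [sqr_mul_self hR hy, conj_conj ht]; group
        _ = _ := by simp [mul_assoc]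
    have hc : x * i⁻¹ ∈ R ⊓ Subgroup.centralizer ({t} : Set G) := by
      refine Subgroup.mem_inf.2 ⟨R.mul_mem hx (R.inv_mem (sqr_mem hy)), mem_cent.2 ?_⟩
      calc t * (x * i⁻¹) * t⁻¹ = (t * x * t⁻¹) * (t * i * t⁻¹)⁻¹ := by group
        _ = (t * x * t⁻¹) * (i * i) * i⁻¹ := by rw [hti]; group
        _ = _ := by rw [hii]; group
    exact ⟨(⟨_, hc⟩, ⟨i, sqr_mem hy, hti⟩), Subtype.ext (inv_mul_cancel_right x i)⟩

theorem card_inverted_eq (R : Subgroup G) (hR : Odd (Nat.card R)) {t u : G} (hu : u * u = 1)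
    (htu : t * u = u * t) (hnt : ∀ x ∈ R, t * x * t⁻¹ ∈ R) (hnu : ∀ x ∈ R, u * x * u⁻¹ ∈ R) :
    Nat.card (inverted R t) =
      Nat.card (inverted (R ⊓ Subgroup.centralizer ({u} : Set G)) t) *
        Nat.card (inverted (R ⊓ Subgroup.centralizer ({t * u} : Set G)) t) := by
  have hcomm : ∀ x : G, t * (u * x * u⁻¹) * t⁻¹ = u * (t * x * t⁻¹) * u⁻¹ := fun x => by
    calc _ = (t * u) * x * (t * u)⁻¹ := by group
      _ = _ := by rw [htu]; group
  have hz : ∀ {z : G}, z ∈ inverted (R ⊓ Subgroup.centralizer ({t * u} : Set G)) t →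
      u * z * u⁻¹ = z⁻¹ := by
    intro z hz
    have h1 : t * (u * z * u⁻¹) * t⁻¹ = z := by
      calc _ = (t * u) * z * (t * u)⁻¹ := by group
        _ = _ := mem_cent.1 (Subgroup.mem_inf.1 hz.1).2
    rw [hcomm, hz.2] at h1
    calc u * z * u⁻¹ = (u * z⁻¹ * u⁻¹)⁻¹ := by group
      _ = _ := by rw [h1]
  rw [← Nat.card_prod]
  refine (Nat.card_congr (Equiv.ofBijective
    (fun q : inverted (R ⊓ Subgroup.centralizer ({u} : Set G)) t ×
      inverted (R ⊓ Subgroup.centralizer ({t * u} : Set G)) t =>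
      (⟨(q.1 : G) * (q.2 : G) * (q.1 : G),
        R.mul_mem (R.mul_mem q.1.2.1.1 q.2.2.1.1) q.1.2.1.1, by
          calc t * ((q.1 : G) * (q.2 : G) * (q.1 : G)) * t⁻¹ =
              (t * (q.1 : G) * t⁻¹) * (t * (q.2 : G) * t⁻¹) * (t * (q.1 : G) * t⁻¹) := by group
            _ = _ := by rw [q.1.2.2, q.2.2.2]; group⟩ : inverted R t)) ⟨?_, ?_⟩)).symm
  · rintro ⟨⟨y, hy⟩, ⟨z, hz'⟩⟩ ⟨⟨y', hy'⟩, ⟨z', hz''⟩⟩ e
    have e' : y * z * y = y' * z' * y' := congrArg Subtype.val e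
    have key : ∀ {p q : G}, p ∈ inverted (R ⊓ Subgroup.centralizer ({u} : Set G)) t →
        q ∈ inverted (R ⊓ Subgroup.centralizer ({t * u} : Set G)) t →
        (p * p * (p * q * p)⁻¹) * (p * p * (p * q * p)⁻¹) =
          (u * (p * q * p) * u⁻¹) * (p * q * p)⁻¹ := by
      intro p q hp hq
      rw [show u * (p * q * p) * u⁻¹ = (u * p * u⁻¹) * (u * q * u⁻¹) * (u * p * u⁻¹) by group,
        mem_cent.1 (Subgroup.mem_inf.1 hp.1).2, hz hq]
      group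
    have hmem : ∀ {p q : G}, p ∈ inverted (R ⊓ Subgroup.centralizer ({u} : Set G)) t →
        q ∈ inverted (R ⊓ Subgroup.centralizer ({t * u} : Set G)) t →
        p * p * (p * q * p)⁻¹ ∈ R := fun hp hq =>
      R.mul_mem (R.mul_mem hp.1.1 hp.1.1) (R.inv_mem (R.mul_mem (R.mul_mem hp.1.1 hq.1.1) hp.1.1))
    have h1 := eq_sqr hR (hmem hy hz') (key hy hz')
    have h2 := eq_sqr hR (hmem hy' hz'') (key hy' hz'')
    rw [← e', ← h1] at h2
    have hyy : y' * y' = y * y := mul_right_cancel h2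
    have hy0 : y = y' := by
      rw [eq_sqr hR hy.1.1 rfl, eq_sqr hR hy'.1.1 rfl, hyy]
    subst hy0
    exact Prod.ext rfl (Subtype.ext (mul_left_cancel (mul_right_cancel e')))
  · rintro ⟨i, hiR, hti⟩
    have hvR : u * i * u⁻¹ ∈ R := hnu i hiR
    set w := sqr R ((u * i * u⁻¹) * i⁻¹) * i with hw
    have hwR : w ∈ R := R.mul_mem (sqr_mem (R.mul_mem hvR (R.inv_mem hiR))) hiR
    have hwi : w * i⁻¹ * w = u * i * u⁻¹ := by
      have h1 := sqr_mul_self hR (R.mul_mem hvR (R.inv_mem hiR))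
      calc w * i⁻¹ * w = (sqr R ((u * i * u⁻¹) * i⁻¹) * sqr R ((u * i * u⁻¹) * i⁻¹)) * i := by
            rw [hw]; group
        _ = _ := by rw [h1]; group
    have huniq : ∀ {p : G}, p ∈ R → p * i⁻¹ * p = u * i * u⁻¹ → p = w := by
      intro p hp e
      have h1 : (p * i⁻¹) * (p * i⁻¹) = (u * i * u⁻¹) * i⁻¹ := by
        rw [← e]; group
      rw [hw, ← eq_sqr hR (R.mul_mem hp (R.inv_mem hiR)) h1, inv_mul_cancel_right]
    have hti' : t * (u * i * u⁻¹) * t⁻¹ = (u * i * u⁻¹)⁻¹ := by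
      rw [hcomm, hti]; group
    have huw : u * w * u⁻¹ = w := by
      refine huniq (hnu w hwR) ?_
      have h1 : (u * w * u⁻¹) * (u * i * u⁻¹)⁻¹ * (u * w * u⁻¹) = i := by
        calc _ = u * (w * i⁻¹ * w) * u⁻¹ := by group
          _ = _ := by rw [hwi, conj_conj hu]
      calc (u * w * u⁻¹) * i⁻¹ * (u * w * u⁻¹) = (u * w * u⁻¹) *
            ((u * w * u⁻¹) * (u * i * u⁻¹)⁻¹ * (u * w * u⁻¹))⁻¹ * (u * w * u⁻¹) := by rw [h1]
        _ = _ := by group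
    have htw : (t * w * t⁻¹)⁻¹ = w := by
      refine huniq (R.inv_mem (hnt w hwR)) ?_
      have h1 : (t * w * t⁻¹) * i * (t * w * t⁻¹) = (u * i * u⁻¹)⁻¹ := by
        rw [← hti', ← hwi]
        calc (t * w * t⁻¹) * i * (t * w * t⁻¹) = (t * w * t⁻¹) * (i⁻¹)⁻¹ * (t * w * t⁻¹) := by group
          _ = (t * w * t⁻¹) * (t * i * t⁻¹)⁻¹ * (t * w * t⁻¹) := by rw [hti]
          _ = _ := by group
      calc (t * w * t⁻¹)⁻¹ * i⁻¹ * (t * w * t⁻¹)⁻¹ =
            ((t * w * t⁻¹) * i * (t * w * t⁻¹))⁻¹ := by group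
        _ = _ := by rw [h1, inv_inv]
    set y := sqr R w with hy
    have hyR : y ∈ R := sqr_mem hwR
    have hyy : y * y = w := sqr_mul_self hR hwR
    have huy : u * y * u⁻¹ = y := by rw [hy, conj_sqr, huw]
    have hty : t * y * t⁻¹ = y⁻¹ := by
      rw [hy, conj_sqr, show t * w * t⁻¹ = w⁻¹ by rw [← inv_inv (t * w * t⁻¹), htw]]
      exact (eq_sqr hR (R.inv_mem hyR) (by rw [← mul_inv_rev, hyy])).symm
    have htz : t * (y⁻¹ * i * y⁻¹) * t⁻¹ = y * i⁻¹ * y := by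
      calc _ = (t * y * t⁻¹)⁻¹ * (t * i * t⁻¹) * (t * y * t⁻¹)⁻¹ := by group
        _ = _ := by rw [hty, hti]; group
    have huz : u * (y⁻¹ * i * y⁻¹) * u⁻¹ = y * i⁻¹ * y := by
      calc _ = (u * y * u⁻¹)⁻¹ * (u * i * u⁻¹) * (u * y * u⁻¹)⁻¹ := by group
        _ = y⁻¹ * ((y * y) * i⁻¹ * (y * y)) * y⁻¹ := by rw [huy, hyy, hwi]
        _ = _ := by group
    refine ⟨(⟨y, Subgroup.mem_inf.2 ⟨hyR, mem_cent.2 huy⟩, hty⟩,
      ⟨y⁻¹ * i * y⁻¹, Subgroup.mem_inf.2 ⟨R.mul_mem (R.mul_mem (R.inv_mem hyR) hiR) (R.inv_mem hyR),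
        mem_cent.2 ?_⟩, by rw [htz]; group⟩), Subtype.ext (by group)⟩
    calc t * u * (y⁻¹ * i * y⁻¹) * (t * u)⁻¹ = t * (u * (y⁻¹ * i * y⁻¹) * u⁻¹) * t⁻¹ := by group
      _ = (t * (y⁻¹ * i * y⁻¹) * t⁻¹)⁻¹ := by rw [huz]; group
      _ = _ := by rw [htz]; group

/-- The Brauer formula for a four-group acting on a subgroup of odd order. -/
theorem card_four_fixed (R : Subgroup G) (hR : Odd (Nat.card R)) {t u : G} (ht : t * t = 1)
    (hu : u * u = 1) (htu : t * u = u * t) (hnt : ∀ x ∈ R, t * x * t⁻¹ ∈ R)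
    (hnu : ∀ x ∈ R, u * x * u⁻¹ ∈ R) :
    Nat.card R * Nat.card ↥(R ⊓ Subgroup.centralizer ({t} : Set G) ⊓
        Subgroup.centralizer ({u} : Set G)) ^ 2 =
      Nat.card ↥(R ⊓ Subgroup.centralizer ({t} : Set G)) *
        Nat.card ↥(R ⊓ Subgroup.centralizer ({u} : Set G)) *
          Nat.card ↥(R ⊓ Subgroup.centralizer ({t * u} : Set G)) := by
  have hodd : ∀ {H : Subgroup G}, H ≤ R → Odd (Nat.card H) := fun h =>
    hR.of_dvd_nat (Subgroup.card_dvd_of_le h)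
  have hn : ∀ {v : G}, t * v = v * t →
      ∀ x ∈ R ⊓ Subgroup.centralizer ({v} : Set G),
        t * x * t⁻¹ ∈ R ⊓ Subgroup.centralizer ({v} : Set G) := by
    intro v hv x hx
    refine Subgroup.mem_inf.2 ⟨hnt x (Subgroup.mem_inf.1 hx).1, mem_cent.2 ?_⟩
    calc v * (t * x * t⁻¹) * v⁻¹ = (v * t) * x * (v * t)⁻¹ := by group
      _ = (t * v) * x * (t * v)⁻¹ := by rw [hv]
      _ = t * (v * x * v⁻¹) * t⁻¹ := by group
      _ = _ := by rw [mem_cent.1 (Subgroup.mem_inf.1 hx).2]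
  have h1 : R ⊓ Subgroup.centralizer ({u} : Set G) ⊓ Subgroup.centralizer ({t} : Set G) =
      R ⊓ Subgroup.centralizer ({t} : Set G) ⊓ Subgroup.centralizer ({u} : Set G) :=
    inf_right_comm _ _ _
  have h2 : R ⊓ Subgroup.centralizer ({t * u} : Set G) ⊓ Subgroup.centralizer ({t} : Set G) =
      R ⊓ Subgroup.centralizer ({t} : Set G) ⊓ Subgroup.centralizer ({u} : Set G) := by
    ext x
    simp only [Subgroup.mem_inf, mem_cent]
    refine ⟨fun ⟨⟨a, b⟩, c⟩ => ⟨⟨a, c⟩, ?_⟩, fun ⟨⟨a, c⟩, d⟩ => ⟨⟨a, ?_⟩, c⟩⟩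
    · calc u * x * u⁻¹ = u * (t * x * t⁻¹) * u⁻¹ := by rw [c]
        _ = (t * u) * x * (t * u)⁻¹ := by rw [htu]; group
        _ = x := b
    · calc (t * u) * x * (t * u)⁻¹ = t * (u * x * u⁻¹) * t⁻¹ := by group
        _ = x := by rw [d, c]
  have e1 := card_eq_fixed_mul_inverted _ (hodd inf_le_left) ht (hn htu)
  have e2 := card_eq_fixed_mul_inverted _ (hodd inf_le_left) ht
    (hn (v := t * u) (by rw [mul_assoc t u t, ← htu, ← mul_assoc]))
  rw [h1] at e1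
  rw [h2] at e2
  rw [card_eq_fixed_mul_inverted R hR ht hnt, card_inverted_eq R hR hu htu hnt hnu, e1, e2]
  ring

end Cfsg.Agent.Invol.SmallCent
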