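import Cfsg.Agent.Lib.Invol.SmallCent.Sylow
import Cfsg.Agent.Lib.Invol.SmallCent.FourFixed
import Cfsg.Agent.Lib.Block.Dihedral.OrderFormula
import Cfsg.Agent.S0107

/-!
The centralizer of the involution in a simple group with a self-centralizing cyclic subgroup of
order four.
-/

namespace Cfsg.Agent.Invol.SmallCent

open Cfsg.Agent.Block.Dih (Data Odd2 invCount)

variable {G : Type*} [Group G] [Finite G]

/-- The configuration. -/
structure Setup (S : Sylow 2 G) (w τ : G) (L : Subgroup G) : Prop where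
  self : Subgroup.centralizer ({w} : Set G) = Subgroup.zpowers w
  data : Data S w 4
  mem_tau : τ ∈ (S : Subgroup G)
  tau_sq : τ * τ = 1
  rel : τ * w * τ⁻¹ = w⁻¹
  one : ∀ z : G, orderOf z = 2 → IsConj (w ^ 2) z
  odd2 : Odd2 L (Subgroup.centralizer ({w ^ 2} : Set G)) (S : Subgroup G)
  inv : ∀ x ∈ L, w * x * w⁻¹ = x⁻¹

/-- A simple group is generated by its elements of odd order. -/
theorem pResidual_eq_top [IsSimpleGroup G] (hG : ¬ IsCyclic G) : Cfsg.pResidual 2 G = ⊤ := by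
  have hn : (Cfsg.pResidual 2 G).Normal := by
    refine ⟨fun x hx c => ?_⟩
    induction hx using Subgroup.closure_induction with
    | mem x hx =>
      refine Subgroup.subset_closure ?_
      show Nat.Coprime (orderOf (c * x * c⁻¹)) 2
      rw [show c * x * c⁻¹ = MulAut.conj c x from rfl, MulEquiv.orderOf_eq]
      exact hx
    | one => simpa using Subgroup.one_mem (Cfsg.pResidual 2 G)
    | mul x y _ _ hx hy =>
      rw [show c * (x * y) * c⁻¹ = c * x * c⁻¹ * (c * y * c⁻¹) by group]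
      exact mul_mem hx hy
    | inv x _ hx =>
      rw [show c * x⁻¹ * c⁻¹ = (c * x * c⁻¹)⁻¹ by group]
      exact inv_mem hx
  refine hn.eq_bot_or_eq_top.resolve_left fun h => ?_
  haveI : Fact (Nat.Prime 2) := ⟨Nat.prime_two⟩
  have h2 : IsPGroup 2 G := by
    refine IsPGroup.of_card (Nat.eq_prime_pow_of_unique_prime_dvd (p := 2) Nat.card_pos.ne'
      fun {q} hq hd => ?_)
    by_contra hq2
    haveI := Fact.mk hq
    obtain ⟨x, hx⟩ := exists_prime_orderOf_dvd_card' q hd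
    have h1 : x ∈ Cfsg.pResidual 2 G := Subgroup.subset_closure (by
      show Nat.Coprime (orderOf x) 2
      rw [hx]
      exact (Nat.coprime_primes hq Nat.prime_two).2 hq2)
    rw [h, Subgroup.mem_bot] at h1
    rw [h1, orderOf_one] at hx
    exact hq.ne_one hx.symm
  haveI := Fact.mk Nat.prime_two
  haveI : Group.IsNilpotent G := h2.isNilpotent
  obtain ⟨z, hz⟩ : ∃ z : Subgroup.center G, z ≠ 1 := by
    haveI : Nontrivial (Subgroup.center G) := h2.center_nontrivial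
    exact exists_ne 1
  exact hz (Subtype.ext (by
    exact Subgroup.mem_bot.1 ((center_eq_bot hG).le z.2)))

theorem exists_setup [IsSimpleGroup G] (hG : ¬ IsCyclic G) {w : G} (hw : orderOf w = 4)
    (hC : Subgroup.centralizer ({w} : Set G) = Subgroup.zpowers w) :
    ∃ (S : Sylow 2 G) (τ : G) (L : Subgroup G), Setup S w τ L := by
  obtain ⟨S, hwS, ⟨e⟩⟩ := sylow_dihedral hG hw hC
  have d : Data S w 4 :=
    Cfsg.Agent.Block.Dih.data_of_equiv S (n := 3) le_rfl e hwS (by rw [hw]; norm_num)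
  obtain ⟨τ, hτ, hττ, hτw⟩ := d.exists_refl
  obtain ⟨L, o⟩ := d.exists_odd2 (r := 1) rfl
  have ht : orderOf (w ^ 2) = 2 := d.orderOf_half (r := 1) rfl
  refine ⟨S, τ, L, hC, d, hτ, hττ, hτw, fun z hz => ?_, o, ?_⟩
  · obtain ⟨g, hg⟩ := Cfsg.Agent.S0107.result S 2 le_rfl ⟨e⟩ (pResidual_eq_top hG) (w ^ 2) z ht hz
    exact isConj_iff.2 ⟨g, hg⟩
  · have hwN : ∀ x ∈ L, w * x * w⁻¹ ∈ L := fun x hx =>
      (Subgroup.mem_normalizer_iff.1 (o.norm (o.ple hwS)) x).1 hx
    have hfix : ∀ x ∈ L, w * x * w⁻¹ = x → x = 1 := by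
      intro x hx e1
      have h1 : x ∈ Subgroup.zpowers w := by
        rw [← hC, Subgroup.mem_centralizer_singleton_iff, ← mul_inv_eq_iff_eq_mul]
        calc x * w * x⁻¹ = (w * x * w⁻¹) * w * x⁻¹ := by rw [e1]
          _ = w := by group
      have h2 : x ∈ L ⊓ (S : Subgroup G) := Subgroup.mem_inf.2 ⟨hx, d.zpowers_le h1⟩
      rwa [o.disj, Subgroup.mem_bot] at h2
    intro y hy
    let f : L → L := fun x => ⟨(x : G)⁻¹ * (w * x * w⁻¹), L.mul_mem (L.inv_mem x.2) (hwN x x.2)⟩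
    have hf : Function.Injective f := by
      intro a b e1
      have e2 : (a : G)⁻¹ * (w * a * w⁻¹) = (b : G)⁻¹ * (w * b * w⁻¹) := congrArg Subtype.val e1
      have e3 := hfix ((b : G) * (a : G)⁻¹) (L.mul_mem b.2 (L.inv_mem a.2)) (by
        calc w * ((b : G) * (a : G)⁻¹) * w⁻¹ =
            (b : G) * ((b : G)⁻¹ * (w * b * w⁻¹)) * (w * a * w⁻¹)⁻¹ := by group
          _ = _ := by rw [← e2]; group)
      exact Subtype.ext (mul_inv_eq_one.1 e3).symm
    obtain ⟨x, hx⟩ := Finite.surjective_of_injective hf ⟨y, hy⟩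
    have e2 : (x : G)⁻¹ * (w * x * w⁻¹) = y := congrArg Subtype.val hx
    have hxt : (x : G) * w ^ 2 = w ^ 2 * x := Subgroup.mem_centralizer_singleton_iff.1 (o.le x.2)
    calc w * y * w⁻¹ = (w * (x : G) * w⁻¹)⁻¹ * (w * (w * x * w⁻¹) * w⁻¹) := by rw [← e2]; group
      _ = (w * (x : G) * w⁻¹)⁻¹ * (w ^ 2 * x * (w ^ 2)⁻¹) := by rw [pow_two]; group
      _ = _ := by rw [← hxt, ← e2]; group

namespace Setup

variable {S : Sylow 2 G} {w τ : G} {L : Subgroup G}

theorem memS (h : Setup S w τ L) : w ∈ (S : Subgroup G) := h.data.mem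

theorem ow (h : Setup S w τ L) : orderOf w = 4 := h.data.order

theorem ot (h : Setup S w τ L) : orderOf (w ^ 2) = 2 := h.data.orderOf_half (r := 1) rfl

theorem w_four (h : Setup S w τ L) : w * w * (w * w) = 1 := by
  rw [← pow_two, ← pow_two, ← pow_mul, show 2 * 2 = orderOf w by rw [h.ow], pow_orderOf_eq_one]

theorem tau_ne (h : Setup S w τ L) : τ ≠ 1 := fun e => by
  have h1 := h.rel
  rw [e, one_mul, inv_one, mul_one, eq_inv_iff_mul_eq_one, ← pow_two] at h1
  have := orderOf_le_of_pow_eq_one (by norm_num) h1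
  have := h.ow
  omega

theorem otau (h : Setup S w τ L) : orderOf τ = 2 :=
  orderOf_eq_prime (by rw [pow_two]; exact h.tau_sq) h.tau_ne

theorem tau_not_rot (h : Setup S w τ L) : τ ∉ Subgroup.zpowers w := fun hh => by
  obtain ⟨k, hk⟩ := Subgroup.mem_zpowers_iff.1 hh
  have h1 := h.rel
  rw [← hk, (Commute.zpow_self w k).eq, mul_inv_cancel_right, eq_inv_iff_mul_eq_one, ← pow_two] at h1
  have := orderOf_le_of_pow_eq_one (by norm_num) h1
  have := h.ow
  omega

theorem tau_comm (h : Setup S w τ L) : τ * w ^ 2 = w ^ 2 * τ := by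
  refine mul_inv_eq_iff_eq_mul.1 ?_
  rw [← conj_pow, h.rel, inv_pow, inv_eq_iff_mul_eq_one, pow_two]
  exact h.w_four

theorem normL (h : Setup S w τ L) {s : G} (hs : s ∈ (S : Subgroup G)) {x : G} (hx : x ∈ L) :
    s * x * s⁻¹ ∈ L :=
  (Subgroup.mem_normalizer_iff.1 (h.odd2.norm (h.odd2.ple hs)) x).1 hx

theorem comm_t (h : Setup S w τ L) {x : G} (hx : x ∈ L) : x * w ^ 2 = w ^ 2 * x :=
  Subgroup.mem_centralizer_singleton_iff.1 (h.odd2.le hx)

theorem abelian (h : Setup S w τ L) {x y : G} (hx : x ∈ L) (hy : y ∈ L) : x * y = y * x := by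
  have h1 : (x * y)⁻¹ = x⁻¹ * y⁻¹ := by
    rw [← h.inv _ (L.mul_mem hx hy), ← h.inv x hx, ← h.inv y hy]; group
  rw [← mul_inv_rev] at h1
  exact inv_injective h1

/-- Replacing the reflection by the other one. -/
theorem swap (h : Setup S w τ L) : Setup S w (w * τ) L := by
  refine ⟨h.self, h.data, mul_mem h.memS h.mem_tau, ?_, ?_, h.one, h.odd2, h.inv⟩
  · calc w * τ * (w * τ) = w * (τ * w * τ⁻¹) * (τ * τ) := by group
      _ = 1 := by rw [h.rel, h.tau_sq, mul_one, mul_inv_cancel]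
  · calc w * τ * w * (w * τ)⁻¹ = w * (τ * w * τ⁻¹) * w⁻¹ := by group
      _ = _ := by rw [h.rel]; group

theorem odd_L (h : Setup S w τ L) : Odd (Nat.card L) :=
  Nat.odd_iff.2 (Nat.two_dvd_ne_zero.1 h.odd2.odd)

/-- The orders of the fixed subgroups of the two reflections multiply to the order of `L`. -/
theorem card_L (h : Setup S w τ L) :
    Nat.card L = Nat.card ↥(L ⊓ Subgroup.centralizer ({τ} : Set G)) *
      Nat.card ↥(L ⊓ Subgroup.centralizer ({w * τ} : Set G)) := by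
  rw [card_eq_fixed_mul_inverted L h.odd_L h.tau_sq fun x hx => h.normL h.mem_tau hx]
  congr 1
  refine Nat.card_congr (Equiv.subtypeEquivRight fun x => ?_)
  rw [Subgroup.mem_inf, mem_cent]
  refine and_congr_right fun hx => ?_
  have e : w * τ * x * (w * τ)⁻¹ = (τ * x * τ⁻¹)⁻¹ := by
    rw [← h.inv _ (h.normL h.mem_tau hx)]; group
  rw [e, inv_eq_iff_eq_inv]

theorem card_centralizer (h : Setup S w τ L) :
    Nat.card (Subgroup.centralizer ({w ^ 2} : Set G)) = Nat.card L * 8 := by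
  rw [h.odd2.card, h.data.card]

theorem card_comm_tau (h : Setup S w τ L) :
    Nat.card {p : ↥(S : Subgroup G) // (p : G) * τ = τ * p} = 4 := by
  classical
  have hS : ∀ p : {p : ↥(S : Subgroup G) // (p : G) * τ = τ * p},
      ((p : ↥(S : Subgroup G)) : G) ∈ ({1, w ^ 2, τ, w ^ 2 * τ} : Set G) := by
    rintro ⟨p, hp⟩
    simpa using h.data.centralizer_reflection (r := 1) rfl h.mem_tau h.tau_not_rot p.2 hp
  have hval : Function.Injective
      fun p : {p : ↥(S : Subgroup G) // (p : G) * τ = τ * p} => ((p : ↥(S : Subgroup G)) : G) :=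
    fun a b e => Subtype.ext (Subtype.ext e)
  have hr : Set.range (fun p : {p : ↥(S : Subgroup G) // (p : G) * τ = τ * p} =>
      ((p : ↥(S : Subgroup G)) : G)) = {1, w ^ 2, τ, w ^ 2 * τ} := by
    refine Set.eq_of_subset_of_subset (Set.range_subset_iff.2 hS) ?_
    rintro x (rfl | rfl | rfl | rfl)
    · exact ⟨⟨1, by simp⟩, rfl⟩
    · exact ⟨⟨⟨w ^ 2, pow_mem h.memS 2⟩, h.tau_comm.symm⟩, rfl⟩
    · exact ⟨⟨⟨x, h.mem_tau⟩, rfl⟩, rfl⟩
    · exact ⟨⟨⟨w ^ 2 * τ, mul_mem (pow_mem h.memS 2) h.mem_tau⟩,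
        show w ^ 2 * τ * τ = τ * (w ^ 2 * τ) by rw [← mul_assoc, h.tau_comm]⟩, rfl⟩
  rw [← Nat.card_range_of_injective hval, hr, Nat.card_coe_set_eq, Set.ncard_eq_toFinset_card']
  simp only [Set.toFinset_insert, Set.toFinset_singleton]
  have n1 : (1 : G) ≠ w ^ 2 := fun e => by have := h.ot; rw [← e, orderOf_one] at this; omega
  have n2 : w ^ 2 ≠ τ := fun e => h.tau_not_rot (e ▸ pow_mem (Subgroup.mem_zpowers w) 2)
  have n3 : (1 : G) ≠ w ^ 2 * τ := fun e => h.tau_not_rot (by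
    rw [← inv_mem_iff, ← eq_inv_of_mul_eq_one_left e.symm]
    exact pow_mem (Subgroup.mem_zpowers w) 2)
  rw [Finset.card_insert_of_notMem (by simp [n1, h.tau_ne.symm, n3]),
    Finset.card_insert_of_notMem (by simp [n2, h.tau_ne]),
    Finset.card_insert_of_notMem (by simp [n1.symm]), Finset.card_singleton]

/-- The four-group of a reflection. -/
def four (_h : Setup S w τ L) : Subgroup G :=
  (S : Subgroup G) ⊓ Subgroup.centralizer ({τ} : Set G)

theorem card_four (h : Setup S w τ L) : Nat.card h.four = 4 := by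
  rw [← h.card_comm_tau]
  exact Nat.card_congr
    { toFun := fun p => ⟨⟨p, (Subgroup.mem_inf.1 p.2).1⟩,
        Subgroup.mem_centralizer_singleton_iff.1 (Subgroup.mem_inf.1 p.2).2⟩
      invFun := fun p => ⟨p.1, Subgroup.mem_inf.2 ⟨p.1.2,
        Subgroup.mem_centralizer_singleton_iff.2 p.2⟩⟩
      left_inv := fun p => rfl
      right_inv := fun p => rfl }

theorem mem_four (h : Setup S w τ L) {v : G} (hv : v ∈ h.four) :
    v = 1 ∨ v = w ^ 2 ∨ v = τ ∨ v = w ^ 2 * τ :=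
  h.data.centralizer_reflection (r := 1) rfl h.mem_tau h.tau_not_rot (Subgroup.mem_inf.1 hv).1
    (Subgroup.mem_centralizer_singleton_iff.1 (Subgroup.mem_inf.1 hv).2)

/-- The centralizer of the central involution and a reflection. -/
theorem card_pair (h : Setup S w τ L) :
    Nat.card (Subgroup.centralizer ({w ^ 2, τ} : Set G)) =
      Nat.card ↥(L ⊓ Subgroup.centralizer ({τ} : Set G)) * 4 := by
  classical
  have hmem : ∀ {x : G}, x ∈ Subgroup.centralizer ({w ^ 2, τ} : Set G) ↔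
      x * w ^ 2 = w ^ 2 * x ∧ x * τ = τ * x := by
    intro x
    rw [Subgroup.mem_centralizer_iff]
    simp [eq_comm]
  have hbij := h.odd2.mul_bijective
  rw [← h.card_comm_tau, ← Nat.card_prod]
  have hc : ∀ (l : ↥(L ⊓ Subgroup.centralizer ({τ} : Set G)))
      (p : {p : ↥(S : Subgroup G) // (p : G) * τ = τ * p}),
      (l : G) * (p : G) ∈ Subgroup.centralizer ({w ^ 2, τ} : Set G) := fun l p => hmem.2
    ⟨Subgroup.mem_centralizer_singleton_iff.1
      (mul_mem (h.odd2.le (Subgroup.mem_inf.1 l.2).1) (h.odd2.ple p.1.2)), by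
      rw [mul_assoc, p.2, ← mul_assoc,
        Subgroup.mem_centralizer_singleton_iff.1 (Subgroup.mem_inf.1 l.2).2, mul_assoc]⟩
  refine (Nat.card_congr (Equiv.ofBijective (fun q : ↥(L ⊓ Subgroup.centralizer ({τ} : Set G)) ×
      {p : ↥(S : Subgroup G) // (p : G) * τ = τ * p} =>
      (⟨_, hc q.1 q.2⟩ : Subgroup.centralizer ({w ^ 2, τ} : Set G))) ⟨?_, ?_⟩)).symm
  · rintro ⟨l, p⟩ ⟨l', p'⟩ e
    have e' : (l : G) * (p : G) = (l' : G) * (p' : G) := congrArg Subtype.val e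
    have e2 := hbij.1 (a₁ := (⟨l, (Subgroup.mem_inf.1 l.2).1⟩, p.1))
      (a₂ := (⟨l', (Subgroup.mem_inf.1 l'.2).1⟩, p'.1)) (Subtype.ext e')
    simp only [Prod.mk.injEq, Subtype.mk.injEq] at e2
    exact Prod.ext (Subtype.ext e2.1) (Subtype.ext e2.2)
  · rintro ⟨x, hx⟩
    obtain ⟨hx1, hx2⟩ := hmem.1 hx
    obtain ⟨⟨l, p⟩, e⟩ := hbij.2 ⟨x, Subgroup.mem_centralizer_singleton_iff.2 hx1⟩
    have e' : (l : G) * (p : G) = x := congrArg Subtype.val e
    have e2 := hbij.1 (a₁ := (⟨τ * l * τ⁻¹, h.normL h.mem_tau l.2⟩,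
      ⟨τ * p * τ⁻¹, mul_mem (mul_mem h.mem_tau p.2) (inv_mem h.mem_tau)⟩)) (a₂ := (l, p))
      (Subtype.ext (by
        show τ * l * τ⁻¹ * (τ * p * τ⁻¹) = (l : G) * p
        calc _ = τ * ((l : G) * p) * τ⁻¹ := by group
          _ = _ := by rw [e', ← hx2, mul_inv_cancel_right]))
    simp only [Prod.mk.injEq] at e2
    exact ⟨(⟨l, Subgroup.mem_inf.2 ⟨l.2, mem_cent.2 (congrArg Subtype.val e2.1)⟩⟩,
      ⟨p, (mul_inv_eq_iff_eq_mul.1 (congrArg Subtype.val e2.2)).symm⟩), Subtype.ext e'⟩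

end Setup

end Cfsg.Agent.Invol.SmallCent
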