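import Mathlib

/-!
Arithmetic for simple groups with a self-centralizing element of order four: `x = 8k + δ` is the
degree of the character of the principal 2-block that is constant on the rotations, `K = 4k + δ`,
`u` and `v` are the signed degrees of two further characters, and `a`, `b` are the orders of the
fixed subgroups of the two reflections on the core of an involution centralizer.
-/

namespace Cfsg.Agent.Invol.SmallCent

theorem uv_eq {a b k δ u v g : ℚ} (hsum : u + v = -2 * δ * (4 * k + δ))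
    (hg : g * k ^ 2 = (8 * k + δ) * (2 * (4 * k + δ)) * (a * b) * (a + b) ^ 2)
    (hδ : δ = 1 ∨ δ = -1) (hu : u ≠ 0) (hv : v ≠ 0) (hg0 : g ≠ 0) (hk : k ≠ 0) (hx : 8 * k + δ ≠ 0)
    (heq : g * (1 + δ / (8 * k + δ) + 1 / u + 1 / v) = 256 * a ^ 2 * b ^ 2) :
    u * v * ((4 * k + δ) ^ 2 * (a + b) ^ 2 - 64 * a * b * k ^ 2) =
      δ * (8 * k + δ) * (4 * k + δ) ^ 2 * (a + b) ^ 2 := by
  have h1 : g * k ^ 2 * ((2 * (4 * k + δ)) * (u * v) + (8 * k + δ) * (u + v)) =
      256 * a ^ 2 * b ^ 2 * k ^ 2 * ((8 * k + δ) * (u * v)) := by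
    have : (2 * (4 * k + δ)) * (u * v) + (8 * k + δ) * (u + v) =
        (1 + δ / (8 * k + δ) + 1 / u + 1 / v) * ((8 * k + δ) * (u * v)) := by
      have e1 : δ / (8 * k + δ) * ((8 * k + δ) * (u * v)) = δ * (u * v) := by
        rw [← mul_assoc, div_mul_cancel₀ δ hx]
      have e2 : 1 / u * ((8 * k + δ) * (u * v)) = (8 * k + δ) * v := by
        field_simp
      have e3 : 1 / v * ((8 * k + δ) * (u * v)) = (8 * k + δ) * u := by
        field_simp
      linear_combination -e1 - e2 - e3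
    rw [this, ← heq]
    ring
  rw [hg, hsum] at h1
  have hab : a * b ≠ 0 ∧ 4 * k + δ ≠ 0 := by
    constructor
    · intro h
      rw [h, mul_zero, zero_mul] at hg
      exact hg0 ((mul_eq_zero.1 hg).resolve_right (pow_ne_zero _ hk))
    · intro h
      rw [h, mul_zero, mul_zero, zero_mul, zero_mul] at hg
      exact hg0 ((mul_eq_zero.1 hg).resolve_right (pow_ne_zero _ hk))
  have hne : 4 * ((8 * k + δ) * (a * b)) ≠ 0 :=
    mul_ne_zero (by norm_num) (mul_ne_zero hx hab.1)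
  refine mul_left_cancel₀ hne ?_
  linear_combination h1

theorem coprime_k {k : ℕ} {δ : ℤ} (hδ : δ = 1 ∨ δ = -1) (n : ℤ) :
    IsCoprime (k : ℤ) (n * k + δ) := by
  refine ⟨-n * δ, δ, ?_⟩
  rcases hδ with rfl | rfl <;> ring

/-- The case of equal fixed subgroups, with a subgroup of order `a ^ 4`. -/
theorem equal_case {a k m δ u v : ℤ} (ha : 0 < a) (hk : 0 < k) (hδ : δ = 1 ∨ δ = -1)
    (hsum : u + v = -2 * δ * (4 * k + δ))
    (huv : u * v * ((4 * k + δ) ^ 2 * (a + a) ^ 2 - 64 * a * a * k ^ 2) =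
      δ * (8 * k + δ) * (4 * k + δ) ^ 2 * (a + a) ^ 2)
    (hg : a ^ 4 * m * k ^ 2 = (8 * k + δ) * (2 * (4 * k + δ)) * (a * a) * (a + a) ^ 2)
    (hu8 : 8 ∣ u - 3) (hu : 8 ≤ u ∨ u ≤ -8) : False := by
  have hx : 8 * k + δ ≠ 0 := by rcases hδ with rfl | rfl <;> omega
  have h1 : u * v = (4 * k + δ) ^ 2 := by
    refine mul_left_cancel₀ (a := 4 * a ^ 2 * δ * (8 * k + δ)) ?_ ?_
    · exact mul_ne_zero (mul_ne_zero (mul_ne_zero (by norm_num) (pow_ne_zero _ ha.ne'))
        (by rcases hδ with rfl | rfl <;> norm_num)) hx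
    · rcases hδ with rfl | rfl <;> linear_combination huv
  have h2 : (u + δ * (4 * k + δ)) ^ 2 = 0 := by
    rcases hδ with rfl | rfl <;> linear_combination u * hsum - h1
  have h3 : u = -(δ * (4 * k + δ)) := by
    have := sq_eq_zero_iff.1 h2
    linarith
  have h4 : m * k ^ 2 = 8 * ((8 * k + δ) * (4 * k + δ)) := by
    refine mul_left_cancel₀ (pow_ne_zero 4 ha.ne') ?_
    linear_combination hg
  obtain ⟨k₀, rfl⟩ : ∃ k₀ : ℕ, k = (k₀ : ℤ) := ⟨k.toNat, (Int.toNat_of_nonneg hk.le).symm⟩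
  have h5 : (k₀ : ℤ) ^ 2 ∣ 8 :=
    (((coprime_k hδ 8).mul_right (coprime_k hδ 4)).pow_left).dvd_of_dvd_mul_right ⟨m, by linarith⟩
  have h6 : k₀ ≤ 2 := by
    have := Int.le_of_dvd (by norm_num) h5
    nlinarith
  interval_cases k₀ <;> rcases hδ with rfl | rfl <;> norm_num at h3 <;> omega

theorem final_three {k δ : ℤ} {g m : ℕ} (hk : 0 < k) (hδ : δ = 1 ∨ δ = -1)
    (hg : (g : ℤ) * k ^ 2 = (8 * k + δ) * (2 * (4 * k + δ)) * 3 * (3 + 1) ^ 2)
    (hgm : g = 8 * m) (hm : Odd m) : k = 2 := by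
  obtain ⟨k₀, rfl⟩ : ∃ k₀ : ℕ, k = (k₀ : ℤ) := ⟨k.toNat, (Int.toNat_of_nonneg hk.le).symm⟩
  have h4 : (m : ℤ) * (k₀ : ℤ) ^ 2 = 12 * ((8 * k₀ + δ) * (4 * k₀ + δ)) := by
    rw [hgm] at hg
    push_cast at hg
    linarith
  have h5 : (k₀ : ℤ) ^ 2 ∣ 12 :=
    (((coprime_k hδ 8).mul_right (coprime_k hδ 4)).pow_left).dvd_of_dvd_mul_right ⟨m, by linarith⟩
  have h6 : k₀ ≤ 3 := by
    have := Int.le_of_dvd (by norm_num) h5
    nlinarith
  obtain ⟨j, hj⟩ := hm
  rw [hj] at h4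
  interval_cases k₀ <;> rcases hδ with rfl | rfl <;> revert h4 h5 <;> norm_num
  all_goals omega

set_option maxHeartbeats 1000000 in
/-- The case of one trivial fixed subgroup. -/
theorem final_case {a k δ u v : ℤ} {g m : ℕ} (ha3 : 3 ≤ a) (hodd : Odd a) (hk : 0 < k)
    (hδ : δ = 1 ∨ δ = -1) (hk2 : δ = -1 → 2 ≤ k)
    (hg : (g : ℤ) * k ^ 2 = (8 * k + δ) * (2 * (4 * k + δ)) * a * (a + 1) ^ 2)
    (hgm : g = 8 * m) (hm : Odd m)
    (hsum : u + v = -2 * δ * (4 * k + δ))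
    (huv : u * v * ((4 * k + δ) ^ 2 * (a + 1) ^ 2 - 64 * a * k ^ 2) =
      δ * (8 * k + δ) * (4 * k + δ) ^ 2 * (a + 1) ^ 2)
    (hu8 : 8 ∣ u - 3) (hv8 : 8 ∣ v - 3) (hu : 8 ≤ u ∨ u ≤ -8) (hv : 8 ≤ v ∨ v ≤ -8) :
    g = 2520 := by
  wlog huv' : u ≤ v generalizing u v
  · exact this (by linarith) (by linarith) hv8 hu8 hv hu (le_of_not_ge huv')
  rcases hδ with rfl | rfl
  · exfalso
    have hK : 0 < 4 * k + 1 := by omega
    have hD : (a - 1) ^ 2 * (4 * k + 1) ^ 2 <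
        (4 * k + 1) ^ 2 * (a + 1) ^ 2 - 64 * a * k ^ 2 := by nlinarith
    have hpos : 0 < u * v := by
      by_contra hc
      push Not at hc
      have : 0 < (8 * k + 1) * (4 * k + 1) ^ 2 * (a + 1) ^ 2 := by positivity
      have h0 := mul_nonpos_of_nonpos_of_nonneg hc
        (le_of_lt (lt_of_le_of_lt (by positivity : (0 : ℤ) ≤ (a - 1) ^ 2 * (4 * k + 1) ^ 2) hD))
      linarith
    have hun : u ≤ -13 := by omega
    have hvn : v ≤ -13 := by
      rcases hv with h | h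
      · have h0 := mul_neg_of_neg_of_pos (show u < 0 by omega) (show 0 < v by omega)
        linarith
      · omega
    have h1 : 13 * (2 * (4 * k + 1) - 13) ≤ u * v := by
      nlinarith [mul_nonneg (show (0 : ℤ) ≤ -u - 13 by omega) (show (0 : ℤ) ≤ -v - 13 by omega)]
    have h2 : u * v * ((a - 1) ^ 2 * (4 * k + 1) ^ 2) <
        (8 * k + 1) * (4 * k + 1) ^ 2 * (a + 1) ^ 2 := by
      have := mul_lt_mul_of_pos_left hD hpos
      linarith
    have h3 : (a + 1) ^ 2 ≤ 4 * (a - 1) ^ 2 := by nlinarith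
    have h4 : u * v < 4 * (8 * k + 1) := by
      by_contra hc
      push Not at hc
      have e1 : 4 * (8 * k + 1) * ((a - 1) ^ 2 * (4 * k + 1) ^ 2) ≤
          u * v * ((a - 1) ^ 2 * (4 * k + 1) ^ 2) := mul_le_mul_of_nonneg_right hc (by positivity)
      have e2 : (8 * k + 1) * (4 * k + 1) ^ 2 * (a + 1) ^ 2 ≤
          (8 * k + 1) * (4 * k + 1) ^ 2 * (4 * (a - 1) ^ 2) :=
        mul_le_mul_of_nonneg_left h3 (by positivity)
      linarith
    omega
  · have hk2' := hk2 rfl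
    rcases eq_or_lt_of_le ha3 with rfl | ha
    · have hk_eq : k = 2 := final_three (m := m) hk (.inr rfl) (by linarith) hgm hm
      subst hk_eq
      norm_num at hg
      omega
    exfalso
    have ha5 : 5 ≤ a := by
      obtain ⟨j, rfl⟩ := hodd
      omega
    have hK : 7 ≤ 4 * k - 1 := by omega
    have hDne : (4 * k + -1) ^ 2 * (a + 1) ^ 2 - 64 * a * k ^ 2 ≠ 0 := by
      intro h
      rw [h, mul_zero] at huv
      have h1 : 0 < (8 * k - 1) * (4 * k - 1) ^ 2 * (a + 1) ^ 2 := by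
        have : 0 < 8 * k - 1 := by omega
        have : 0 < 4 * k - 1 := by omega
        positivity
      linarith
    rcases lt_or_gt_of_ne hDne with hD | hD
    · have hx : 0 < (8 * k - 1) * (4 * k - 1) ^ 2 * (a + 1) ^ 2 := by
        have : 0 < 8 * k - 1 := by omega
        have : 0 < 4 * k - 1 := by omega
        positivity
      have hpos : 0 < u * v := by
        by_contra hc
        push Not at hc
        have h0 := mul_nonneg_of_nonpos_of_nonpos hc hD.le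
        linarith
      have hle : u * v ≤ (4 * k - 1) ^ 2 := by nlinarith [sq_nonneg (u - v)]
      have e1 : 64 * a * k ^ 2 - (4 * k - 1) ^ 2 * (a + 1) ^ 2 ≤ 4 * a * (8 * k - 1) := by
        nlinarith [mul_nonneg (sq_nonneg (a - 1)) (sq_nonneg (4 * k - 1))]
      have e2 : u * v * (64 * a * k ^ 2 - (4 * k - 1) ^ 2 * (a + 1) ^ 2) ≤
          (4 * k - 1) ^ 2 * (4 * a * (8 * k - 1)) :=
        mul_le_mul hle e1 (by linarith) (by positivity)
      have e3 : 4 * a * ((8 * k - 1) * (4 * k - 1) ^ 2) <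
          (a + 1) ^ 2 * ((8 * k - 1) * (4 * k - 1) ^ 2) := by
        refine mul_lt_mul_of_pos_right (by nlinarith) ?_
        have : 0 < 8 * k - 1 := by omega
        have : 0 < 4 * k - 1 := by omega
        positivity
      nlinarith
    · have hneg : u * v < 0 := by
        by_contra hc
        push Not at hc
        have : 0 < (8 * k - 1) * (4 * k - 1) ^ 2 * (a + 1) ^ 2 := by
          have : 0 < 8 * k - 1 := by omega
          have : 0 < 4 * k - 1 := by omega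
          positivity
        have h0 := mul_nonneg hc hD.le
        linarith
      have hun : u ≤ -13 := by
        rcases hu with h | h
        · have h0 := mul_pos (show (0 : ℤ) < u by omega) (show (0 : ℤ) < v by omega)
          linarith
        · omega
      have h1 : u * v ≤ -(13 * (2 * (4 * k - 1) + 13)) := by
        have hv' : v = 2 * (4 * k - 1) - u := by linarith
        rw [hv']
        nlinarith [mul_nonneg (show (0 : ℤ) ≤ -u - 13 by omega) (show (0 : ℤ) ≤ -u + 13 by omega)]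
      have h2 : 13 * (2 * (4 * k - 1) + 13) *
          ((a - 1) ^ 2 * (4 * k - 1) ^ 2 - 4 * a * (8 * k - 1)) ≤
          (8 * k - 1) * (4 * k - 1) ^ 2 * (a + 1) ^ 2 := by
        have e : (4 * k + -1) ^ 2 * (a + 1) ^ 2 - 64 * a * k ^ 2 =
            (a - 1) ^ 2 * (4 * k - 1) ^ 2 - 4 * a * (8 * k - 1) := by ring
        rw [e] at hD huv
        have h0 := mul_le_mul_of_nonneg_right h1 hD.le
        linarith
      have h3 : 13 * ((a - 1) ^ 2 * (4 * k - 1) ^ 2) ≤
          (4 * k - 1) ^ 2 * (a + 1) ^ 2 + 52 * a * (8 * k - 1) := by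
        by_contra hc
        push Not at hc
        have : 0 < 8 * k - 1 := by omega
        nlinarith [mul_lt_mul_of_pos_left hc (show (0 : ℤ) < 2 * (4 * k - 1) + 13 by omega),
          mul_nonneg (show (0 : ℤ) ≤ 12 by norm_num)
            (show (0 : ℤ) ≤ (4 * k - 1) ^ 2 * (a + 1) ^ 2 by positivity)]
      have h4 : 52 * a * (8 * k - 1) ≤ 156 * a * (4 * k - 1) := by nlinarith
      have h5 : (4 * k - 1) * (13 * (a - 1) ^ 2 - (a + 1) ^ 2) ≤ 156 * a := by nlinarith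
      have h6 : 0 ≤ 13 * (a - 1) ^ 2 - (a + 1) ^ 2 := by nlinarith
      have h7 := mul_le_mul_of_nonneg_right hK h6
      nlinarith

/-- Degrees of the principal block of a group with Klein four Sylow subgroup. -/
theorem bracket_le {d₂ d₃ d₄ : ℕ} {ε : ℤ} (hε : ε = 1 ∨ ε = -1) (h₂ : 5 ≤ d₂)
    (h₃ : ε = 1 → 5 ≤ d₃) (h₃' : 0 < d₃) (h₄ : 0 < d₄) :
    1 + 1 / (d₂ : ℚ) + (ε : ℚ) / (d₃ : ℚ) - 1 / (d₄ : ℚ) ≤ 7 / 5 := by
  have e2 : 1 / (d₂ : ℚ) ≤ 1 / 5 := by
    apply one_div_le_one_div_of_le (by norm_num)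
    exact_mod_cast h₂
  have e4 : (0 : ℚ) ≤ 1 / (d₄ : ℚ) := by positivity
  rcases hε with rfl | rfl
  · have e3 : 1 / (d₃ : ℚ) ≤ 1 / 5 := by
      apply one_div_le_one_div_of_le (by norm_num)
      exact_mod_cast h₃ rfl
    push_cast
    linarith
  · have e3 : (0 : ℚ) ≤ 1 / (d₃ : ℚ) := by positivity
    push_cast
    rw [neg_div]
    linarith

/-- The index bound when both fixed subgroups are nontrivial. -/
theorem index_small {a b k δ : ℤ} {g X N i : ℕ} {B : ℚ} (hb : 3 ≤ b) (ha : 3 ≤ a) (hab : a ≤ b)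
    (hk : 0 < k) (hδ : δ = 1 ∨ δ = -1)
    (hg : (g : ℤ) * k ^ 2 = (8 * k + δ) * (2 * (4 * k + δ)) * (a * b) * (a + b) ^ 2)
    (hX : (X : ℚ) * B = 32 * a * b ^ 3) (hB : B ≤ 7 / 5) (hN : 2 * X ≤ N) (hi : i * N = g) :
    i ≤ 7 ∧ (2 ≤ i → 5040 < g) := by
  have hXlow : 160 * (a * b ^ 3 : ℤ) ≤ 7 * (X : ℤ) := by
    have h1 : (160 : ℚ) * (a * b ^ 3) ≤ 7 * (X : ℚ) := by
      nlinarith [mul_le_mul_of_nonneg_left hB (Nat.cast_nonneg (α := ℚ) X)]
    exact_mod_cast h1
  have hN' : 2 * (X : ℤ) ≤ (N : ℤ) := by exact_mod_cast hN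
  have hi' : (i : ℤ) * (N : ℤ) = (g : ℤ) := by exact_mod_cast hi
  have hgi : 320 * (i : ℤ) * (a * b ^ 3) ≤ 7 * (g : ℤ) := by
    rw [← hi']
    nlinarith [mul_le_mul_of_nonneg_left (hXlow.trans (show 7 * (X : ℤ) ≤ 7 * (X : ℤ) from le_rfl))
      (Int.natCast_nonneg i), mul_le_mul_of_nonneg_left hN' (Int.natCast_nonneg i)]
  have hb3 : 0 < a * b := mul_pos (by omega) (by omega)
  refine ⟨?_, fun h2 => ?_⟩
  · have h1 : (8 * k + δ) * (2 * (4 * k + δ)) ≤ 90 * k ^ 2 := by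
      rcases hδ with rfl | rfl <;> nlinarith
    have h2 : (a + b) ^ 2 ≤ 4 * b ^ 2 := by nlinarith
    have h3 : (g : ℤ) * k ^ 2 ≤ 360 * (a * b ^ 3) * k ^ 2 := by
      rw [hg]
      calc (8 * k + δ) * (2 * (4 * k + δ)) * (a * b) * (a + b) ^ 2
          ≤ 90 * k ^ 2 * (a * b) * (a + b) ^ 2 := by
            refine mul_le_mul_of_nonneg_right (mul_le_mul_of_nonneg_right h1 hb3.le) (sq_nonneg _)
        _ ≤ 90 * k ^ 2 * (a * b) * (4 * b ^ 2) := mul_le_mul_of_nonneg_left h2 (by positivity)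
        _ = _ := by ring
    have h4 : (g : ℤ) ≤ 360 * (a * b ^ 3) := le_of_mul_le_mul_right h3 (by positivity)
    have h5 : (320 * (i : ℤ)) * (a * b ^ 3) ≤ 2520 * (a * b ^ 3) := by linarith
    have h6 := le_of_mul_le_mul_right h5 (by positivity)
    omega
  · have h81 : 81 ≤ a * b ^ 3 := by
      have : 3 ^ 3 ≤ b ^ 3 := pow_le_pow_left₀ (by norm_num) hb 3
      have h0 := mul_le_mul ha this (by norm_num) (by omega)
      linarith
    have : (2 : ℤ) ≤ (i : ℤ) := by exact_mod_cast h2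
    have h7 : 7 * (5040 : ℤ) < 7 * (g : ℤ) := by nlinarith
    omega

end Cfsg.Agent.Invol.SmallCent
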