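import Cfsg.Agent.Lib.Char.Average

/-!
The degree of a character which is constant on the translates of a four-group by the powers of an
element of odd prime order.
-/

open scoped ComplexConjugate

namespace Cfsg.Agent.Invol.SmallCent

open Cfsg.Agent.Char

theorem count_eq {n p : ℕ} (hp : 0 < p) (c : Fin n → ℂ) (hc : ∀ i, c i ^ p = 1) {ζ : ℂ}
    (hζ : ζ ^ p = 1) :
    ∑ k ∈ Finset.range p, (∑ i, c i ^ k) * conj ζ ^ k =
      (p : ℂ) * ((Finset.univ.filter fun i => c i = ζ).card : ℂ) := by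
  classical
  have hζζ : ζ * conj ζ = 1 := by
    rw [Complex.mul_conj, Complex.normSq_eq_norm_sq, norm_eq_one_of_pow_eq_one' hp hζ]
    simp
  rw [Finset.sum_congr rfl fun k _ => Finset.sum_mul (Finset.univ) _ (conj ζ ^ k), Finset.sum_comm,
    ← Finset.sum_boole, Finset.mul_sum]
  refine Finset.sum_congr rfl fun i _ => ?_
  simp only [← mul_pow]
  split_ifs with h
  · rw [h, hζζ]; simp
  · have hne : c i * conj ζ ≠ 1 := by
      intro e
      apply h
      calc c i = c i * (ζ * conj ζ) := by rw [hζζ, mul_one]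
        _ = ζ * (c i * conj ζ) := by ring
        _ = ζ := by rw [e, mul_one]
    rw [geom_sum_eq hne, mul_pow, hc, ← map_pow, hζ, map_one, one_mul, sub_self, zero_div, mul_zero]

/-- A real character which is constant on the translates of a four-group by a faithful element of
odd order has degree at least eight. -/
theorem eight_le_degree {G : Type*} [Group G] [Finite G] {χ : G → ℂ}
    (hχ : Cfsg.IsCharacter G χ) {α : G} {p : ℕ} (hp : p.Prime) (hp2 : p ≠ 2) (hα : orderOf α = p)
    {V : Subgroup G} (hV : Nat.card V = 4) (hcomm : ∀ v ∈ V, Commute α v) {c : ℂ}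
    (hval : ∀ k : ℕ, ∀ v ∈ V, v ≠ 1 → χ (α ^ k * v) = c)
    (hreal : ∀ k : ℕ, χ (α ^ k)⁻¹ = χ (α ^ k)) (hne : χ α ≠ χ 1) {n : ℕ} (hn : χ 1 = n) :
    8 ≤ n := by
  classical
  obtain ⟨m, ρ, hρ⟩ := hχ
  obtain ⟨-, e, -, he, hek⟩ := exists_rep_eigenbasis ρ α
  rw [hρ] at hek
  rw [hα] at he
  have hn' : Module.finrank ℂ (Fin m → ℂ) = n := by
    have h0 := hek 0
    simp only [pow_zero, Finset.sum_const, Finset.card_univ, Fintype.card_fin, nsmul_eq_mul,
      mul_one, hn] at h0
    exact_mod_cast h0.symm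
  -- the averaged character
  have hc : ∀ (a : Subgroup.zpowers α) (v : V), Commute ((Subgroup.zpowers α).subtype a) (V.subtype v) := by
    rintro ⟨a, ha⟩ v
    obtain ⟨k, rfl⟩ := Subgroup.mem_zpowers_iff.1 ha
    exact (hcomm _ v.2).zpow_left k
  let φ : Subgroup.zpowers α × V →* G :=
    MonoidHom.noncommCoprod (Subgroup.zpowers α).subtype V.subtype hc
  cases nonempty_fintype (Subgroup.zpowers α × V)
  cases nonempty_fintype V
  let N : Subgroup (Subgroup.zpowers α × V) := (MonoidHom.inr (Subgroup.zpowers α) V).range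
  haveI : N.Normal := by
    have hN : N = (MonoidHom.fst (Subgroup.zpowers α) V).ker := by
      ext ⟨a, v⟩
      simp only [N, MonoidHom.mem_range, MonoidHom.mem_ker, MonoidHom.inr_apply, MonoidHom.coe_fst,
        Prod.mk.injEq]
      exact ⟨fun ⟨w, h, _⟩ => h.symm, fun h => ⟨v, h.symm, rfl⟩⟩
    rw [hN]; exact MonoidHom.normal_ker _
  cases nonempty_fintype N
  have hψc : Cfsg.IsCharacter (Subgroup.zpowers α × V)
      (avgN N (χ ∘ φ)) :=
    IsChar.avgN N (IsChar.comp φ ⟨m, ρ, hρ⟩)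
  have hψ : ∀ k : ℕ, avgN N (χ ∘ φ) ((⟨α, Subgroup.mem_zpowers α⟩, 1) ^ k) =
      (χ (α ^ k) + 3 * c) / 4 := by
    intro k
    have h1 : avgN N (χ ∘ φ) ((⟨α, Subgroup.mem_zpowers α⟩, 1) ^ k) =
        (Nat.card V : ℂ)⁻¹ * ∑ v : V, χ (α ^ k * v) := by
      have hcN : Nat.card N = Nat.card V :=
        Nat.card_congr (MonoidHom.ofInjective (f := MonoidHom.inr (Subgroup.zpowers α) V)
          (fun a b h => (Prod.ext_iff.1 h).2)).toEquiv.symm
      unfold avgN
      rw [hcN]
      congr 1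
      refine (Fintype.sum_equiv (MonoidHom.ofInjective (f := MonoidHom.inr (Subgroup.zpowers α) V)
          (fun a b h => (Prod.ext_iff.1 h).2)).toEquiv _ _ fun v => ?_).symm
      show χ (α ^ k * v) = χ (φ ((MonoidHom.inr (Subgroup.zpowers α) V) v *
        (⟨α, Subgroup.mem_zpowers α⟩, 1) ^ k))
      simp only [MonoidHom.inr_apply, Function.comp_apply, φ, MonoidHom.noncommCoprod_apply, Prod.fst_mul,
        Prod.snd_mul, Prod.pow_fst, Prod.pow_snd, one_pow, mul_one, one_mul, Subgroup.coe_subtype,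
        SubmonoidClass.coe_pow]
    rw [h1, Fintype.sum_eq_add_sum_compl (1 : V), Finset.sum_congr rfl (g := fun _ => c)
      (fun (v : V) hv => hval k v v.2 fun h => by
        simp only [Finset.mem_compl, Finset.mem_singleton] at hv
        exact hv (Subtype.ext h)),
      Finset.sum_const, Finset.card_compl, Finset.card_singleton, ← Nat.card_eq_fintype_card, hV,
      OneMemClass.coe_one, mul_one, nsmul_eq_mul]
    norm_num
    ring
  obtain ⟨M', ρ', hρ'⟩ := hψc
  obtain ⟨-, d, -, hd, hdk⟩ := exists_rep_eigenbasis ρ'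
    ((⟨α, Subgroup.mem_zpowers α⟩, 1) : Subgroup.zpowers α × V)
  rw [hρ'] at hdk
  have ho : orderOf ((⟨α, Subgroup.mem_zpowers α⟩, 1) : Subgroup.zpowers α × V) = p := by
    rw [Prod.orderOf_mk, orderOf_one, Nat.lcm_one_right, Subgroup.orderOf_mk, hα]
  rw [ho] at hd
  have hdiv : ∀ ζ : ℂ, ζ ^ p = 1 → ζ ≠ 1 → 4 ∣ (Finset.univ.filter fun i => e i = ζ).card := by
    intro ζ hζ hζ1
    refine ⟨(Finset.univ.filter fun i => d i = ζ).card, ?_⟩
    have h1 := count_eq hp.pos e he hζ
    have h2 := count_eq hp.pos d hd hζ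
    simp only [← hek] at h1
    simp only [← hdk, hψ] at h2
    have h3 : ∑ k ∈ Finset.range p, conj ζ ^ k = 0 := by
      have hne : conj ζ ≠ 1 := fun h => hζ1 (by simpa using congrArg (starRingEnd ℂ) h)
      rw [geom_sum_eq hne, ← map_pow, hζ, map_one, sub_self, zero_div]
    have h4 : (p : ℂ) * ((Finset.univ.filter fun i => d i = ζ).card : ℂ) * 4 =
        (p : ℂ) * ((Finset.univ.filter fun i => e i = ζ).card : ℂ) := by
      rw [← h1, ← h2, Finset.sum_mul, ← add_zero (∑ k ∈ Finset.range p, χ (α ^ k) * conj ζ ^ k),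
        ← mul_zero (3 * c), ← h3, Finset.mul_sum, ← Finset.sum_add_distrib]
      exact Finset.sum_congr rfl fun k _ => by ring
    rw [mul_assoc] at h4
    have h5 := mul_left_cancel₀ (Nat.cast_ne_zero.2 hp.pos.ne') h4
    rw [mul_comm]
    exact_mod_cast h5.symm
  obtain ⟨i, hi⟩ : ∃ i, e i ≠ 1 := by
    by_contra h
    push Not at h
    refine hne ?_
    rw [← pow_one α, hek, hn, ← hn']
    simp [h]
  set ζ := e i with hζdef
  have hζ : ζ ^ p = 1 := he i
  have hζc : conj ζ ≠ ζ := by
    intro h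
    have h1 : ζ * ζ = 1 := by
      nth_rw 2 [← h]
      rw [Complex.mul_conj, Complex.normSq_eq_norm_sq, norm_eq_one_of_pow_eq_one' hp.pos hζ]
      simp
    obtain ⟨q, hq⟩ := hp.odd_of_ne_two hp2
    rw [hq, pow_succ, pow_mul, pow_two, h1, one_pow, one_mul] at hζ
    exact hi hζ
  have hsymm : (Finset.univ.filter fun j => e j = conj ζ).card =
      (Finset.univ.filter fun j => e j = ζ).card := by
    have h1 := count_eq hp.pos e he hζ
    have h2 := count_eq hp.pos e he (ζ := conj ζ) (by rw [← map_pow, hζ, map_one])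
    simp only [← hek] at h1 h2
    have h3 : conj (∑ k ∈ Finset.range p, χ (α ^ k) * conj ζ ^ k) =
        ∑ k ∈ Finset.range p, χ (α ^ k) * conj (conj ζ) ^ k := by
      rw [map_sum]
      refine Finset.sum_congr rfl fun k _ => ?_
      rw [map_mul, map_pow, ← IsChar.apply_inv ⟨m, ρ, hρ⟩, hreal]
    rw [h1, h2, map_mul, Complex.conj_natCast, Complex.conj_natCast] at h3
    exact_mod_cast (mul_left_cancel₀ (Nat.cast_ne_zero.2 hp.pos.ne') h3).symm
  have hpos : 0 < (Finset.univ.filter fun j => e j = ζ).card :=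
    Finset.card_pos.2 ⟨i, by simp [hζdef]⟩
  have h4 := Nat.le_of_dvd hpos (hdiv ζ hζ hi)
  have hdisj : Disjoint (Finset.univ.filter fun j => e j = ζ)
      (Finset.univ.filter fun j => e j = conj ζ) :=
    Finset.disjoint_filter.2 fun j _ h h' => hζc (h'.symm.trans h)
  have h5 := (Finset.univ.filter fun j => e j = ζ ∨ e j = conj ζ).card_le_univ
  rw [Finset.filter_or, Finset.card_union_of_disjoint hdisj, Fintype.card_fin, hsymm] at h5
  omega

end Cfsg.Agent.Invol.SmallCent
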