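import Cfsg.Agent.Lib.Invol.SmallCent.Local
import Cfsg.Agent.Lib.Invol.SmallCent.CharBound
import Cfsg.Agent.Lib.Invol.SmallCent.Arith
import Cfsg.Agent.Lib.Char.Constituent
import Cfsg.Agent.S4481
import Cfsg.Agent.S4482

/-!
The principal 2-block of a simple group with a self-centralizing cyclic subgroup of order four.
-/

open scoped ComplexConjugate

namespace Cfsg.Agent.Invol.SmallCent

open Cfsg.Agent.Block.Dih (invCount)
open Cfsg.Agent.Char (IsIrr.isCharacter)

variable {G : Type*} [Group G] [Finite G] {S : Sylow 2 G} {w τ : G} {L : Subgroup G}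

/-- The orders of the fixed subgroups of the reflections. -/
noncomputable def fixA (L : Subgroup G) (τ : G) : ℕ :=
  Nat.card ↥(L ⊓ Subgroup.centralizer ({τ} : Set G))

theorem Setup.invCount_tau (h : Setup S w τ L) {x : G} (hx : x ∈ (S : Subgroup G)) (hxx : x * x = 1)
    (hx1 : x ≠ 1) :
    invCount L x * Nat.card ↥(L ⊓ Subgroup.centralizer ({x} : Set G)) = Nat.card L :=
  Cfsg.Agent.Block.Dih.invCount_mul L hxx (fun hh => hx1 (by
    have h1 : x ∈ L ⊓ (S : Subgroup G) := Subgroup.mem_inf.2 ⟨hh, hx⟩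
    rwa [h.odd2.disj, Subgroup.mem_bot] at h1)) (h.odd2.norm (h.odd2.ple hx)) h.odd2.odd

theorem Setup.invCount_refl (h : Setup S w τ L) : invCount L τ = fixA L (w * τ) := by
  have h1 := h.invCount_tau h.mem_tau h.tau_sq h.tau_ne
  rw [h.card_L, mul_comm] at h1
  exact Nat.eq_of_mul_eq_mul_left Nat.card_pos h1

theorem Setup.invCount_refl_t (h : Setup S w τ L) : invCount L (τ * w ^ 2) = fixA L (w * τ) := by
  have hmem : τ * w ^ 2 ∈ (S : Subgroup G) := mul_mem h.mem_tau (pow_mem h.memS 2)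
  have hsq : τ * w ^ 2 * (τ * w ^ 2) = 1 := by
    calc τ * w ^ 2 * (τ * w ^ 2) = τ * (w ^ 2 * τ) * w ^ 2 := by group
      _ = τ * (τ * w ^ 2) * w ^ 2 := by rw [h.tau_comm]
      _ = (τ * τ) * (w * w * (w * w)) := by rw [pow_two]; group
      _ = 1 := by rw [h.tau_sq, h.w_four, one_mul]
  have hne : τ * w ^ 2 ≠ 1 := fun e => h.tau_not_rot (by
    rw [eq_inv_of_mul_eq_one_left e]
    exact inv_mem (pow_mem (Subgroup.mem_zpowers w) 2))
  have hC : L ⊓ Subgroup.centralizer ({τ * w ^ 2} : Set G) = L ⊓ Subgroup.centralizer ({τ} : Set G) := by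
    ext x
    simp only [Subgroup.mem_inf, mem_cent]
    refine and_congr_right fun hx => ?_
    have e : τ * w ^ 2 * x * (τ * w ^ 2)⁻¹ = τ * x * τ⁻¹ := by
      calc τ * w ^ 2 * x * (τ * w ^ 2)⁻¹ = τ * (w ^ 2 * x) * (w ^ 2)⁻¹ * τ⁻¹ := by group
        _ = _ := by rw [← h.comm_t hx]; group
    rw [e]
  have h1 := h.invCount_tau hmem hsq hne
  rw [hC, h.card_L, mul_comm] at h1
  exact Nat.eq_of_mul_eq_mul_left Nat.card_pos h1

theorem Setup.invCount_rot (h : Setup S w τ L) {x : G} (hx : x = w ∨ x = w ^ 3) :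
    invCount L x = 0 := by
  rw [invCount, Nat.card_eq_zero]
  refine .inl ⟨fun ⟨l, hl⟩ => ?_⟩
  have h1 : (l : G) * x * ((l : G) * x) = 1 := by rw [← pow_two, ← hl, pow_orderOf_eq_one]
  have key : (l : G) * x * ((l : G) * x) = w ^ 2 := by
    have hl' := h.inv _ l.2
    have hlt := h.comm_t l.2
    rcases hx with rfl | rfl
    · calc (l : G) * x * ((l : G) * x) = (l : G) * (x * (l : G) * x⁻¹) * (x * x) := by group
        _ = x ^ 2 := by rw [hl', mul_inv_cancel, one_mul, pow_two]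
    · calc (l : G) * w ^ 3 * ((l : G) * w ^ 3) =
          (l : G) * (w * (w ^ 2 * (l : G) * (w ^ 2)⁻¹) * w⁻¹) * (w * w * (w * w) * w ^ 2) := by
            group
        _ = (l : G) * (w * (l : G) * w⁻¹) * (w * w * (w * w) * w ^ 2) := by
            rw [← hlt, mul_inv_cancel_right]
        _ = w ^ 2 := by rw [hl', h.w_four, mul_inv_cancel, one_mul, one_mul]
  rw [key] at h1
  have := h.ot
  rw [h1, orderOf_one] at this
  omega

theorem Setup.invCount_one (h : Setup S w τ L) : invCount L (1 : G) = 0 := by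
  rw [invCount, Nat.card_eq_zero]
  refine .inl ⟨fun ⟨l, hl⟩ => ?_⟩
  rw [mul_one, Subgroup.orderOf_coe] at hl
  exact h.odd2.odd (hl ▸ orderOf_dvd_natCard l)

theorem Setup.sum_rhs (h : Setup S w τ L) [Fintype ↥(S : Subgroup G)] :
    ∑ p : ↥(S : Subgroup G), (invCount L (p : G) : ℂ) * (invCount L ((p : G) * w⁻¹) : ℂ) =
      4 * (fixA L τ : ℂ) * fixA L (w * τ) := by
  classical
  rw [h.data.sum_elements h.mem_tau h.rel
    (fun x => (invCount L x : ℂ) * (invCount L (x * w⁻¹) : ℂ))]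
  simp only [Finset.sum_range_succ, Finset.sum_range_zero, zero_add, pow_zero, mul_one, one_mul]
  have h4 : w * w * (w * w) = 1 := h.w_four
  have i1 : invCount L (w ^ 2 * w⁻¹) = 0 := h.invCount_rot (.inl (by rw [pow_two, mul_inv_cancel_right]))
  have e1 : w⁻¹ = w ^ 3 := inv_eq_of_mul_eq_one_right (by
    rw [← pow_succ', show 3 + 1 = 2 * 2 from rfl, pow_mul, pow_two (w ^ 2), pow_two, h4])
  have eτ : invCount L (τ * w) = fixA L τ ∧ invCount L (τ * w ^ 3) = fixA L τ := by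
    have e2 : τ * w = w * τ * w ^ 2 := by
      calc τ * w = (τ * w * τ⁻¹) * τ := by group
        _ = w⁻¹ * τ := by rw [h.rel]
        _ = w * w ^ 2 * τ := by rw [e1, ← pow_succ']
        _ = _ := by rw [mul_assoc, ← h.tau_comm, mul_assoc]
    have e3 : τ * w ^ 3 = w * τ := by
      calc τ * w ^ 3 = (τ * w⁻¹ * τ⁻¹) * τ := by rw [← e1]; group
        _ = (τ * w * τ⁻¹)⁻¹ * τ := by group
        _ = _ := by rw [h.rel, inv_inv]
    have hw := h.swap
    have hB : fixA L (w * (w * τ)) = fixA L τ := by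
      unfold fixA
      congr 2
      ext x
      simp only [Subgroup.mem_inf, mem_cent]
      refine and_congr_right fun hx => ?_
      have e : w * (w * τ) * x * (w * (w * τ))⁻¹ = τ * x * τ⁻¹ := by
        calc w * (w * τ) * x * (w * (w * τ))⁻¹ = w ^ 2 * (τ * x * τ⁻¹) * (w ^ 2)⁻¹ := by
              rw [pow_two]; group
          _ = _ := by rw [← h.comm_t (h.normL h.mem_tau hx), mul_inv_cancel_right]
      rw [e]
    exact ⟨by rw [e2, hw.invCount_refl_t, hB], by rw [e3, hw.invCount_refl, hB]⟩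
  simp only [pow_one, mul_inv_cancel_right]
  rw [h.invCount_rot (x := w) (.inl rfl), h.invCount_rot (x := w ^ 3) (.inr rfl), i1, h.invCount_one,
    h.invCount_refl, h.invCount_refl_t, eτ.1, eτ.2]
  have j2 : invCount L (τ * w ^ 2 * w⁻¹) = fixA L τ := by
    rw [pow_two, ← mul_assoc, mul_inv_cancel_right, eτ.1]
  have j3 : invCount L (τ * w ^ 3 * w⁻¹) = fixA L (w * τ) := by
    rw [pow_succ, ← mul_assoc, mul_inv_cancel_right, h.invCount_refl_t]
  have j0 : invCount L (τ * w⁻¹) = fixA L τ := by rw [e1, eτ.2]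
  rw [j0, j2, j3]
  push_cast
  ring

/-- The pair equation in the principal block. -/
theorem Setup.pair_equation (h : Setup S w τ L) {M : Ideal Cfsg.AlgInt} (hM : Cfsg.IsPModular 2 M) :
    (Nat.card G : ℂ) * (∑ᶠ χ ∈ Cfsg.principalBlock M G,
        (χ : G → ℂ) (w ^ 2) ^ 2 / (χ : G → ℂ) 1 * (χ : G → ℂ) w) =
      256 * (fixA L τ : ℂ) ^ 2 * (fixA L (w * τ) : ℂ) ^ 2 := by
  classical
  cases nonempty_fintype G
  cases nonempty_fintype L
  cases nonempty_fintype ↥(S : Subgroup G)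
  have hle : Subgroup.centralizer ({w} : Set G) ≤ Subgroup.centralizer ({w ^ 2} : Set G) :=
    fun x hx => Subgroup.mem_centralizer_singleton_iff.2
      ((show Commute x w from Subgroup.mem_centralizer_singleton_iff.1 hx).pow_right 2).eq
  have hidx : ∃ k : ℕ, (L.subgroupOf (Subgroup.centralizer ({w} : Set G))).index = 2 ^ k := by
    refine ⟨2, ?_⟩
    have hb : L.subgroupOf (Subgroup.centralizer ({w} : Set G)) = ⊥ := by
      rw [Subgroup.subgroupOf_eq_bot, disjoint_iff, h.self, eq_bot_iff, ← h.odd2.disj]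
      exact inf_le_inf_left _ h.data.zpowers_le
    rw [hb, Subgroup.index_bot, h.self, Nat.card_zpowers, h.ow]
    norm_num
  have hloc : ∀ c : G, ∀ l : L, orderOf c = 2 → orderOf (c * ((l : G) * w⁻¹)) = 2 →
      c ∈ Subgroup.centralizer ({w ^ 2} : Set G) := by
    intro c l hc hcl
    have hcc : c * c = 1 := by rw [← pow_two, ← hc, pow_orderOf_eq_one]
    have hcl' : c * ((l : G) * w⁻¹) * (c * ((l : G) * w⁻¹)) = 1 := by
      rw [← pow_two, ← hcl, pow_orderOf_eq_one]
    set z := (l : G) * w⁻¹ with hz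
    have hzz : z * z = (w ^ 2)⁻¹ := by
      have hl : w⁻¹ * (l : G) * w = (l : G)⁻¹ := by
        calc w⁻¹ * (l : G) * w = w⁻¹ * (w * (l : G)⁻¹ * w⁻¹) * w := by
              rw [h.inv _ (inv_mem l.2), inv_inv]
          _ = _ := by group
      calc z * z = (l : G) * (w⁻¹ * (l : G) * w) * (w⁻¹ * w⁻¹) := by rw [hz]; group
        _ = _ := by rw [hl, mul_inv_cancel, one_mul, pow_two, mul_inv_rev]
    have hinv : c * z * c⁻¹ = z⁻¹ := by
      rw [inv_eq_of_mul_eq_one_left hcc]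
      refine (eq_inv_of_mul_eq_one_left ?_)
      rw [← hcl']; group
    have h2 : c * (w ^ 2)⁻¹ * c⁻¹ = w ^ 2 := by
      rw [← hzz, ← inv_inv (w ^ 2), ← hzz, mul_inv_rev]
      calc c * (z * z) * c⁻¹ = c * z * c⁻¹ * (c * z * c⁻¹) := by group
        _ = _ := by rw [hinv]
    have ht2 : (w ^ 2)⁻¹ = w ^ 2 := inv_eq_of_mul_eq_one_right (by rw [pow_two]; exact h.w_four)
    rw [ht2] at h2
    exact mem_cent.2 (by
      calc w ^ 2 * c * (w ^ 2)⁻¹ = (c * w ^ 2 * c⁻¹) * c * (w ^ 2)⁻¹ := by rw [h2]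
        _ = _ := by group)
  have h1 := Cfsg.Agent.Block.Dih.coset_equation hM h.odd2 h.ot h.one ⟨2, by rw [h.ow]; norm_num⟩
    h.memS hle hidx hloc
  rw [h.sum_rhs, h.card_centralizer, h.card_L] at h1
  push_cast at h1
  have hne : (fixA L τ : ℂ) * fixA L (w * τ) ≠ 0 :=
    mul_ne_zero (Nat.cast_ne_zero.2 Nat.card_pos.ne') (Nat.cast_ne_zero.2 Nat.card_pos.ne')
  refine mul_left_cancel₀ hne ?_
  unfold fixA at h1 ⊢
  linear_combination h1

end Cfsg.Agent.Invol.SmallCent
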