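import Cfsg.Agent.Lib.Invol.SmallCent.Params

/-!
The centralizer `X` of the fixed subgroup `A` of a reflection: its involution centralizer, its Sylow
2-subgroups and the fusion of its involutions.
-/

namespace Cfsg.Agent.Invol.SmallCent

variable {G : Type*} [Group G] [Finite G] {S : Sylow 2 G} {w τ : G} {L : Subgroup G}

theorem Setup.mem_L_of_odd (h : Setup S w τ L) {x : G}
    (hx : x ∈ Subgroup.centralizer ({w ^ 2} : Set G)) (ho : Odd (orderOf x)) : x ∈ L := by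
  set C := Subgroup.centralizer ({w ^ 2} : Set G) with hC
  haveI : (L.subgroupOf C).Normal :=
    (Subgroup.normal_subgroupOf_iff_le_normalizer h.odd2.le).2 h.odd2.norm
  have hidx : (L.subgroupOf C).index = 8 := by
    have h1 := (L.subgroupOf C).card_mul_index
    rw [Nat.card_congr (Subgroup.subgroupOfEquivOfLe h.odd2.le).toEquiv, hC, h.card_centralizer] at h1
    exact Nat.eq_of_mul_eq_mul_left Nat.card_pos h1
  have h8 : x ^ 8 ∈ L := by
    have h2 : (⟨x, hx⟩ : C) ^ (L.subgroupOf C).index ∈ L.subgroupOf C :=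
      Subgroup.pow_index_mem _ _
    rw [hidx] at h2
    exact Subgroup.mem_subgroupOf.1 h2
  obtain ⟨k, hk⟩ := exists_pow_eq_self_of_coprime
    (show Nat.Coprime 8 (orderOf x) from (Nat.Coprime.pow_left 3 (Nat.coprime_two_left.2 ho)))
  exact hk ▸ pow_mem h8 k

/-- An involution of the centralizer of `w ^ 2` is carried into `S` by an element of the core. -/
theorem Setup.conj_into_S (h : Setup S w τ L) {u : G}
    (hu : u ∈ Subgroup.centralizer ({w ^ 2} : Set G)) (huu : u * u = 1) :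
    ∃ m ∈ L, m⁻¹ * u * m ∈ (S : Subgroup G) := by
  obtain ⟨⟨l, s⟩, e⟩ := h.odd2.mul_bijective.2 ⟨u, hu⟩
  have e' : (l : G) * (s : G) = u := congrArg Subtype.val e
  have e2 := h.odd2.mul_bijective.1
    (a₁ := (⟨(l : G) * ((s : G) * l * (s : G)⁻¹), L.mul_mem l.2 (h.normL s.2 l.2)⟩,
      (⟨(s : G) * s, mul_mem s.2 s.2⟩ : (S : Subgroup G))))
    (a₂ := ((1 : L), (1 : (S : Subgroup G)))) (Subtype.ext (by
      show (l : G) * ((s : G) * l * (s : G)⁻¹) * ((s : G) * s) = (1 : G) * 1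
      rw [one_mul, ← huu, ← e']
      group))
  simp only [Prod.mk.injEq] at e2
  have e3 : (l : G) * ((s : G) * l * (s : G)⁻¹) = 1 := congrArg Subtype.val e2.1
  set m := sqr L (l : G) with hm
  have hms : (s : G) * m * (s : G)⁻¹ = m⁻¹ := by
    rw [hm, conj_sqr, ← inv_eq_of_mul_eq_one_right e3]
    refine (eq_sqr h.odd_L (L.inv_mem (sqr_mem l.2)) ?_).symm
    rw [← mul_inv_rev, sqr_mul_self h.odd_L l.2]
  refine ⟨m, sqr_mem l.2, ?_⟩
  have e4 : u = m * m * (s : G) := by rw [hm, sqr_mul_self h.odd_L l.2, e']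
  have e5 : m⁻¹ * u * m = (s : G) := by
    calc m⁻¹ * u * m = m * ((s : G) * m * (s : G)⁻¹) * s := by rw [e4]; group
      _ = _ := by rw [hms, mul_inv_cancel, one_mul]
  rw [e5]; exact s.2

/-- The fixed subgroup of the reflection. -/
def Setup.A (_h : Setup S w τ L) : Subgroup G := L ⊓ Subgroup.centralizer ({τ} : Set G)

/-- Its centralizer. -/
def Setup.X (h : Setup S w τ L) : Subgroup G := Subgroup.centralizer (h.A : Set G)

theorem Setup.mem_X (h : Setup S w τ L) {x : G} : x ∈ h.X ↔ ∀ a ∈ h.A, a * x = x * a :=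
  Subgroup.mem_centralizer_iff

theorem Setup.L_le_X (h : Setup S w τ L) : L ≤ h.X := fun _ hx =>
  h.mem_X.2 fun _ ha => h.abelian (Subgroup.mem_inf.1 ha).1 hx

theorem Setup.four_le_X (h : Setup S w τ L) : h.four ≤ h.X := by
  intro v hv
  refine h.mem_X.2 fun a ha => ?_
  obtain ⟨haL, haτ⟩ := Subgroup.mem_inf.1 ha
  have h1 : Commute a τ := Subgroup.mem_centralizer_singleton_iff.1 haτ
  rcases h.mem_four hv with rfl | rfl | rfl | rfl
  · exact (Commute.one_right a).eq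
  · exact h.comm_t haL
  · exact h1.eq
  · exact ((show Commute a (w ^ 2) from h.comm_t haL).mul_right h1).eq

theorem Setup.w_inv_A (h : Setup S w τ L) {a : G} (ha : a ∈ h.A) : w * a * w⁻¹ = a⁻¹ :=
  h.inv a (Subgroup.mem_inf.1 ha).1

theorem Setup.odd_A (h : Setup S w τ L) : Odd (Nat.card h.A) :=
  h.odd_L.of_dvd_nat (Subgroup.card_dvd_of_le inf_le_left)

theorem Setup.exists_ne_inv (h : Setup S w τ L) (hA : 1 < fixA L τ) :
    ∃ a ∈ h.A, a⁻¹ ≠ a := by
  haveI : Nontrivial h.A := Finite.one_lt_card_iff_nontrivial.1 hA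
  obtain ⟨⟨a, ha⟩, hne⟩ := exists_ne (1 : h.A)
  refine ⟨a, ha, fun e => hne (Subtype.ext ?_)⟩
  have h2 : orderOf a ∣ 2 := orderOf_dvd_of_pow_eq_one (by
    rw [pow_two]; exact inv_eq_iff_mul_eq_one.1 e)
  have h3 : orderOf a ∣ Nat.card h.A := Subgroup.orderOf_dvd_natCard _ ha
  rcases (Nat.dvd_prime Nat.prime_two).1 h2 with e1 | e1
  · exact orderOf_eq_one_iff.1 e1
  · exact absurd (e1 ▸ h3) (Nat.two_dvd_ne_zero.2 (Nat.odd_iff.1 h.odd_A))

theorem Setup.w_notMem_X (h : Setup S w τ L) (hA : 1 < fixA L τ) : w ∉ h.X := by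
  intro hw
  obtain ⟨a, ha, hne⟩ := h.exists_ne_inv hA
  have h1 := h.w_inv_A ha
  rw [← (h.mem_X.1 hw a ha), mul_inv_cancel_right] at h1
  exact hne h1.symm

theorem Setup.S_inf_X (h : Setup S w τ L) (hA : 1 < fixA L τ) {s : G} (hs : s ∈ (S : Subgroup G))
    (hX : s ∈ h.X) : s ∈ h.four := by
  refine Subgroup.mem_inf.2 ⟨hs, ?_⟩
  have hrot : ∀ y ∈ Subgroup.zpowers w, y ∈ h.X → y * y = 1 := by
    intro y hy hyX
    by_contra hne
    have ho : orderOf y ∣ 4 := h.ow ▸ orderOf_dvd_of_mem_zpowers hy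
    have hzp : Subgroup.zpowers y = Subgroup.zpowers w := by
      refine Subgroup.eq_of_le_of_card_ge (Subgroup.zpowers_le.2 hy) ?_
      rw [Nat.card_zpowers, Nat.card_zpowers, h.ow]
      have h4 : orderOf y ∈ Nat.divisors 4 := Nat.mem_divisors.2 ⟨ho, by norm_num⟩
      have : orderOf y = 1 ∨ orderOf y = 2 ∨ orderOf y = 4 := by
        simpa [show Nat.divisors 4 = {1, 2, 4} by decide] using h4
      rcases this with e | e | e
      · exact absurd (by rw [orderOf_eq_one_iff.1 e, one_mul]) hne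
      · exact absurd (by rw [← pow_two, ← e, pow_orderOf_eq_one]) hne
      · rw [e]
    exact h.w_notMem_X hA ((Subgroup.zpowers_le.2 hyX) (hzp ▸ Subgroup.mem_zpowers w))
  rcases h.data.cases s hs with hr | ⟨hss, hs1, hsw⟩
  · rcases h.data.rotation_involution (r := 1) rfl hr (hrot s hr hX) with rfl | rfl
    · exact Subgroup.one_mem _
    · exact Subgroup.mem_centralizer_singleton_iff.2 h.tau_comm.symm
  · have hr : τ * s ∈ Subgroup.zpowers w := by
      rw [← h.self, Subgroup.mem_centralizer_singleton_iff, ← mul_inv_eq_iff_eq_mul]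
      calc τ * s * w * (τ * s)⁻¹ = τ * (s * w * s⁻¹) * τ⁻¹ := by group
        _ = (τ * w * τ⁻¹)⁻¹ := by rw [hsw]; group
        _ = w := by rw [h.rel, inv_inv]
    have hτX : τ ∈ h.X := h.four_le_X
      (Subgroup.mem_inf.2 ⟨h.mem_tau, Subgroup.mem_centralizer_singleton_iff.2 rfl⟩)
    have h2 := hrot _ hr (mul_mem hτX hX)
    refine Subgroup.mem_centralizer_singleton_iff.2 ?_
    calc s * τ = s * τ * (τ * s * (τ * s)) := by rw [h2, mul_one]
      _ = (s * (τ * τ) * s) * τ * s := by group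
      _ = τ * s := by rw [h.tau_sq, mul_one, hss, one_mul]

theorem Setup.mem_cent_X (h : Setup S w τ L) (hA : 1 < fixA L τ) {x : G} (hx : x ∈ h.X)
    (hxt : x * w ^ 2 = w ^ 2 * x) : ∃ l ∈ L, ∃ v ∈ h.four, x = l * v := by
  obtain ⟨⟨l, s⟩, e⟩ := h.odd2.mul_bijective.2 ⟨x, Subgroup.mem_centralizer_singleton_iff.2 hxt⟩
  have e' : (l : G) * (s : G) = x := congrArg Subtype.val e
  refine ⟨l, l.2, s, h.S_inf_X hA s.2 ?_, e'.symm⟩
  rw [show (s : G) = (l : G)⁻¹ * x by rw [← e', inv_mul_cancel_left]]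
  exact mul_mem (inv_mem (h.L_le_X l.2)) hx

/-- An element of `X` permuting the three involutions of the four-group cyclically. -/
theorem Setup.exists_cycle (h : Setup S w τ L) :
    ∃ ρ ∈ h.X, ρ * w ^ 2 * ρ⁻¹ = τ ∧ ρ * τ * ρ⁻¹ = w ^ 2 * τ := by
  obtain ⟨h₀, hh₀⟩ := isConj_iff.1 (h.one τ h.otau)
  set u := h₀⁻¹ * w ^ 2 * h₀ with hu
  have htt : w ^ 2 * w ^ 2 = 1 := by rw [pow_two]; exact h.w_four
  have huu : u * u = 1 := by
    rw [hu]
    calc _ = h₀⁻¹ * (w ^ 2 * w ^ 2) * h₀ := by group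
      _ = 1 := by rw [htt]; group
  have huC : u ∈ Subgroup.centralizer ({w ^ 2} : Set G) := by
    refine mem_cent.2 ?_
    have h1 : w ^ 2 = h₀⁻¹ * τ * h₀ := by rw [← hh₀]; group
    calc w ^ 2 * u * (w ^ 2)⁻¹ = (h₀⁻¹ * τ * h₀) * u * (h₀⁻¹ * τ * h₀)⁻¹ := by rw [← h1]
      _ = h₀⁻¹ * (τ * w ^ 2 * τ⁻¹) * h₀ := by rw [hu]; group
      _ = u := by rw [h.tau_comm, mul_inv_cancel_right]
  obtain ⟨m, hm, hs0⟩ := h.conj_into_S huC huu
  set g := h₀ * m with hg
  have hgt : g * w ^ 2 * g⁻¹ = τ := by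
    rw [← hh₀, hg]
    calc h₀ * m * w ^ 2 * (h₀ * m)⁻¹ = h₀ * (m * w ^ 2) * m⁻¹ * h₀⁻¹ := by group
      _ = _ := by rw [h.comm_t hm]; group
  set s₀ := m⁻¹ * u * m with hs₀
  have hgs : g * s₀ * g⁻¹ = w ^ 2 := by rw [hs₀, hu, hg]; group
  have hs1 : s₀ * w * s₀⁻¹ = w⁻¹ := by
    rcases h.data.cases s₀ hs0 with hr | ⟨-, -, hr⟩
    · exfalso
      have hss : s₀ * s₀ = 1 := by
        rw [hs₀]
        calc _ = m⁻¹ * (u * u) * m := by group
          _ = 1 := by rw [huu]; group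
      rcases h.data.rotation_involution (r := 1) rfl hr hss with e | e
      · rw [e] at hgs
        have := h.ot
        rw [← hgs, mul_one, mul_inv_cancel, orderOf_one] at this
        omega
      · rw [e, hgt] at hgs
        exact h.tau_not_rot (hgs ▸ pow_mem (Subgroup.mem_zpowers w) 2)
    · exact hr
  set w' := g * w * g⁻¹ with hw'
  have hsq : w' * w' = τ := by
    rw [← hgt, hw', pow_two]; group
  have hw't : w' * w ^ 2 * w'⁻¹ = τ * w ^ 2 := by
    have e : w * s₀ * w⁻¹ = w ^ 2 * s₀ := by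
      calc w * s₀ * w⁻¹ = w * (s₀ * w⁻¹ * s₀⁻¹) * s₀ := by group
        _ = w * (s₀ * w * s₀⁻¹)⁻¹ * s₀ := by group
        _ = _ := by rw [hs1, inv_inv, pow_two]
    calc w' * w ^ 2 * w'⁻¹ = (g * w * g⁻¹) * (g * s₀ * g⁻¹) * (g * w * g⁻¹)⁻¹ := by rw [hgs]
      _ = g * (w * s₀ * w⁻¹) * g⁻¹ := by group
      _ = (g * w ^ 2 * g⁻¹) * (g * s₀ * g⁻¹) := by rw [e]; group
      _ = _ := by rw [hgt, hgs]
  have hA' : ∀ a ∈ h.A, w' * a * w'⁻¹ = a⁻¹ := by
    intro a ha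
    have hmem : g⁻¹ * a * g ∈ L := by
      refine h.mem_L_of_odd (mem_cent.2 ?_) ?_
      · calc w ^ 2 * (g⁻¹ * a * g) * (w ^ 2)⁻¹ =
              g⁻¹ * ((g * w ^ 2 * g⁻¹) * a * (g * w ^ 2 * g⁻¹)⁻¹) * g := by group
          _ = _ := by rw [hgt, mem_cent.1 (Subgroup.mem_inf.1 ha).2]
      · rw [show g⁻¹ * a * g = MulAut.conj g⁻¹ a by simp, MulEquiv.orderOf_eq]
        exact h.odd_A.of_dvd_nat (Subgroup.orderOf_dvd_natCard _ ha)
    calc w' * a * w'⁻¹ = g * (w * (g⁻¹ * a * g) * w⁻¹) * g⁻¹ := by rw [hw']; group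
      _ = _ := by rw [h.inv _ hmem]; group
  refine ⟨w * w', h.mem_X.2 fun a ha => ?_, ?_, ?_⟩
  · refine (mul_inv_eq_iff_eq_mul.1 ?_).symm
    calc w * w' * a * (w * w')⁻¹ = w * (w' * a * w'⁻¹) * w⁻¹ := by group
      _ = (w * a * w⁻¹)⁻¹ := by rw [hA' a ha]; group
      _ = a := by rw [h.w_inv_A ha, inv_inv]
  · calc w * w' * w ^ 2 * (w * w')⁻¹ = w * (w' * w ^ 2 * w'⁻¹) * w⁻¹ := by group
      _ = (w * τ * w⁻¹) * w ^ 2 := by rw [hw't, pow_two]; group
      _ = _ := by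
        have e : w * τ * w⁻¹ = w ^ 2 * τ := by
          calc w * τ * w⁻¹ = w * (τ * w⁻¹ * τ⁻¹) * τ := by group
            _ = w * (τ * w * τ⁻¹)⁻¹ * τ := by group
            _ = _ := by rw [h.rel, inv_inv, pow_two]
        rw [e, mul_assoc, h.tau_comm, ← mul_assoc, htt, one_mul]
  · calc w * w' * τ * (w * w')⁻¹ = w * (w' * τ * w'⁻¹) * w⁻¹ := by group
      _ = w * τ * w⁻¹ := by rw [← hsq]; group
      _ = w * (τ * w * τ⁻¹)⁻¹ * τ := by group
      _ = _ := by rw [h.rel, inv_inv, pow_two]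

end Cfsg.Agent.Invol.SmallCent
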