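import Cfsg.Agent.Lib.Invol.SmallCent.FixerGroup
import Cfsg.Agent.S0948

/-!
The principal 2-block of the centralizer `X` of `A`.
-/

namespace Cfsg.Agent.Invol.SmallCent

open Cfsg.Agent.Block.Dih (invCount)
open Cfsg.Agent.Char

variable {G : Type*} [Group G] [Finite G] {S : Sylow 2 G} {w τ : G} {L : Subgroup G}

theorem invCount_subgroupOf {L X : Subgroup G} (hLX : L ≤ X) (x : X) :
    invCount (L.subgroupOf X) x = invCount L (x : G) := by
  refine Nat.card_congr ((Subgroup.subgroupOfEquivOfLe hLX).toEquiv.subtypeEquiv fun l => ?_)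
  rw [← Subgroup.orderOf_coe ((l : X) * x)]
  simp [Subgroup.subgroupOfEquivOfLe]

theorem Setup.invCount_t (h : Setup S w τ L) : invCount L (w ^ 2) = 1 := by
  have hne : w ^ 2 ≠ 1 := fun e => by have := h.ot; rw [e, orderOf_one] at this; omega
  have h1 := h.invCount_tau (pow_mem h.memS 2) (by rw [pow_two]; exact h.w_four) hne
  rw [inf_eq_left.2 h.odd2.le] at h1
  exact Nat.eq_of_mul_eq_mul_right Nat.card_pos (h1.trans (one_mul _).symm)

theorem Setup.sum_rhs_X (h : Setup S w τ L) [Fintype ↥(h.four.subgroupOf h.X)] :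
    ∑ p : ↥(h.four.subgroupOf h.X), (invCount (L.subgroupOf h.X) (p : ↥h.X) : ℂ) *
        (invCount (L.subgroupOf h.X) ((p : ↥h.X) *
          (⟨w ^ 2, h.four_le_X h.t_mem_four⟩ : ↥h.X)⁻¹) : ℂ) =
      2 * (fixA L (w * τ) : ℂ) ^ 2 := by
  classical
  set F : G → ℂ := fun v => (invCount L v : ℂ) * (invCount L (v * (w ^ 2)⁻¹) : ℂ) with hF
  rw [Finset.sum_congr rfl (g := fun p : ↥(h.four.subgroupOf h.X) => F ((p : ↥h.X) : G))
    fun p _ => by rw [invCount_subgroupOf h.L_le_X, invCount_subgroupOf h.L_le_X]; rfl]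
  have hb : (Finset.univ.image fun p : ↥(h.four.subgroupOf h.X) => ((p : ↥h.X) : G)) =
      {1, w ^ 2, τ, w ^ 2 * τ} := by
    refine Finset.eq_of_subset_of_card_le ?_ ?_
    · intro v hv
      obtain ⟨p, -, rfl⟩ := Finset.mem_image.1 hv
      simpa using h.mem_four (Subgroup.mem_subgroupOf.1 p.2)
    · rw [Finset.card_image_of_injective _ (fun p q e => Subtype.ext (Subtype.ext e)),
        Finset.card_univ, ← Nat.card_eq_fintype_card, h.four_klein.card_four]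
      exact Finset.card_le_four
  have hsum : ∑ p : ↥(h.four.subgroupOf h.X), F ((p : ↥h.X) : G) =
      ∑ v ∈ ({1, w ^ 2, τ, w ^ 2 * τ} : Finset G), F v := by
    rw [← hb, Finset.sum_image (fun p _ q _ e => Subtype.ext (Subtype.ext e))]
  have n1 : (1 : G) ≠ w ^ 2 := fun e => by have := h.ot; rw [← e, orderOf_one] at this; omega
  have n2 : w ^ 2 ≠ τ := fun e => h.tau_not_rot (e ▸ pow_mem (Subgroup.mem_zpowers w) 2)
  have n3 : (1 : G) ≠ w ^ 2 * τ := fun e => h.tau_not_rot (by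
    rw [← inv_mem_iff, ← eq_inv_of_mul_eq_one_left e.symm]
    exact pow_mem (Subgroup.mem_zpowers w) 2)
  rw [hsum, Finset.sum_insert (by simp [n1, h.tau_ne.symm, n3]),
    Finset.sum_insert (by simp [n2, n1.symm, h.tau_ne]), Finset.sum_insert (by simp [n1.symm]),
    Finset.sum_singleton]
  have hti : (w ^ 2)⁻¹ = w ^ 2 := inv_eq_of_mul_eq_one_right (by rw [pow_two]; exact h.w_four)
  have e1 : τ * (w ^ 2)⁻¹ = τ * w ^ 2 := by rw [hti]
  have e2 : w ^ 2 * τ * w ^ 2 = τ := by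
    conv_lhs => rw [← h.tau_comm, mul_assoc, pow_two, h.w_four, mul_one]
  simp only [hF, one_mul, mul_inv_cancel]
  rw [hti, e2, h.invCount_one, h.invCount_t, ← h.tau_comm, h.invCount_refl, h.invCount_refl_t]
  push_cast
  ring

/-- The block equation of `X`. -/
theorem Setup.fixer_equation (h : Setup S w τ L) (hA : 1 < fixA L τ) :
    ∃ (M : Ideal Cfsg.AlgInt) (d₂ d₃ d₄ : ℕ) (ε : ℤ), Cfsg.IsPModular 2 M ∧ (ε = 1 ∨ ε = -1) ∧
      0 < d₂ ∧ 0 < d₃ ∧ 0 < d₄ ∧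
      (Nat.card ↥h.X : ℚ) * (1 + 1 / (d₂ : ℚ) + (ε : ℚ) / (d₃ : ℚ) - 1 / (d₄ : ℚ)) =
        32 * (fixA L τ : ℚ) * (fixA L (w * τ) : ℚ) ^ 3 ∧
      ((5 ≤ d₂ ∧ (ε = 1 → 5 ≤ d₃)) ∨
        ∃ χ : Cfsg.IrrCharacter ↥h.X, χ ∈ Cfsg.principalBlock M ↥h.X ∧
          (χ : ↥h.X → ℂ) 1 = 1 ∧ (χ : ↥h.X → ℂ) ≠ (fun _ => 1) ∧
          ∀ z : ↥h.X, orderOf z = 2 → (χ : ↥h.X → ℂ) z = 1) := by
  classical
  haveI : Fact (Nat.Prime 2) := ⟨Nat.prime_two⟩
  obtain ⟨M, hM⟩ := Cfsg.Agent.Char.exists_isPModular 2 Nat.prime_two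
  obtain ⟨P, hP⟩ := h.exists_sylow_X hA
  set t' : ↥h.X := ⟨w ^ 2, h.four_le_X h.t_mem_four⟩ with ht'
  have ht : orderOf t' = 2 := by rw [ht', Subgroup.orderOf_mk]; exact h.ot
  have hone : ∀ z : ↥h.X, orderOf z = 2 → IsConj t' z := h.one_class_X hA
  obtain ⟨ζ₂, ζ₃, ζ₄, ε, hε, n2, n3, n23, n24, n34, hB, hval, m2, m3, -, -⟩ :=
    Cfsg.Agent.S0948.result M hM P (by rw [hP]; exact h.four_klein)
      (fun s t hs ht => (hone s hs).symm.trans (hone t ht))
  refine ⟨M, Cfsg.charDegree (ζ₂ : ↥h.X → ℂ), Cfsg.charDegree (ζ₃ : ↥h.X → ℂ),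
    Cfsg.charDegree (ζ₄ : ↥h.X → ℂ), ε, hM, hε, Cfsg.Agent.Block.charDeg_pos _,
    Cfsg.Agent.Block.charDeg_pos _, Cfsg.Agent.Block.charDeg_pos _, ?_, ?_⟩
  · cases nonempty_fintype ↥h.X
    cases nonempty_fintype ↥(L.subgroupOf h.X)
    cases nonempty_fintype ↥(h.four.subgroupOf h.X)
    have hcard : Nat.card ↥(L.subgroupOf h.X) = Nat.card L :=
      Nat.card_congr (Subgroup.subgroupOfEquivOfLe h.L_le_X).toEquiv
    have o := h.odd2_X hA
    have hidx : ∃ k : ℕ,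
        ((L.subgroupOf h.X).subgroupOf (Subgroup.centralizer ({t'} : Set ↥h.X))).index = 2 ^ k := by
      refine ⟨2, ?_⟩
      have h1 := ((L.subgroupOf h.X).subgroupOf
        (Subgroup.centralizer ({t'} : Set ↥h.X))).card_mul_index
      rw [Nat.card_congr (Subgroup.subgroupOfEquivOfLe o.le).toEquiv, ht', h.card_cent_X hA, hcard] at h1
      exact Nat.eq_of_mul_eq_mul_left Nat.card_pos h1
    have hloc : ∀ c : ↥h.X, ∀ l : ↥(L.subgroupOf h.X), orderOf c = 2 →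
        orderOf (c * ((l : ↥h.X) * t'⁻¹)) = 2 → c ∈ Subgroup.centralizer ({t'} : Set ↥h.X) := by
      intro c l hc hcl
      have hcc : (c : G) * c = 1 := by
        rw [← Subgroup.coe_mul, ← pow_two, ← hc, pow_orderOf_eq_one, OneMemClass.coe_one]
      have hcl' : ((c : G) * (((l : ↥h.X) : G) * (w ^ 2)⁻¹)) * ((c : G) * (((l : ↥h.X) : G) * (w ^ 2)⁻¹)) = 1 := by
        have h1 : (c * ((l : ↥h.X) * t'⁻¹)) * (c * ((l : ↥h.X) * t'⁻¹)) = 1 := by
          rw [← pow_two, ← hcl, pow_orderOf_eq_one]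
        exact congrArg Subtype.val h1
      have hti : (w ^ 2)⁻¹ = w ^ 2 := inv_eq_of_mul_eq_one_right (by rw [pow_two]; exact h.w_four)
      rw [hti] at hcl'
      set z := ((l : ↥h.X) : G) * w ^ 2 with hz
      have hinv : (c : G) * z * (c : G)⁻¹ = z⁻¹ := by
        rw [inv_eq_of_mul_eq_one_left hcc]
        refine eq_inv_of_mul_eq_one_left ?_
        rw [← hcl']; group
      have hlL : ((l : ↥h.X) : G) ∈ L := Subgroup.mem_subgroupOf.1 l.2
      have hzn : z ^ Nat.card L = w ^ 2 := by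
        rw [hz, (show Commute ((l : ↥h.X) : G) (w ^ 2) from h.comm_t hlL).mul_pow,
          pow_card_of_mem hlL, one_mul]
        obtain ⟨r, hr⟩ := h.odd_L
        rw [hr, pow_succ, pow_mul, pow_two (w ^ 2), pow_two, h.w_four, one_pow, one_mul]
      have hct : (c : G) * w ^ 2 * (c : G)⁻¹ = w ^ 2 := by
        conv_lhs => rw [← hzn, ← conj_pow, hinv, inv_pow, hzn, hti]
      refine Subgroup.mem_centralizer_singleton_iff.2 (Subtype.ext ?_)
      exact mul_inv_eq_iff_eq_mul.1 hct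
    have heq := Cfsg.Agent.Block.Dih.coset_equation hM o ht hone ⟨1, by rw [ht, pow_one]⟩
      (Subgroup.mem_subgroupOf.2 h.t_mem_four) le_rfl hidx hloc
    rw [h.sum_rhs_X, ht', h.card_cent_X hA, hcard] at heq
    rw [← ht'] at heq
    have hb0 : Cfsg.principalBlock M ↥h.X = insert (⟨fun _ => 1, isIrr_one⟩ : Cfsg.IrrCharacter ↥h.X)
        ({ζ₂, ζ₃, ζ₄} : Set _) := by
      rw [hB]
      ext χ
      simp only [Set.mem_setOf_eq, Set.mem_insert_iff, Set.mem_singleton_iff, Subtype.ext_iff]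
    obtain ⟨v2, v3, v4⟩ := hval t' ht
    have n4 : (ζ₄ : ↥h.X → ℂ) ≠ fun _ => 1 := fun e => by
      rw [e] at v4
      norm_num at v4
    rw [hb0, finsum_mem_insert _ (by
        simp only [Set.mem_insert_iff, Set.mem_singleton_iff, Subtype.ext_iff, not_or]
        exact ⟨fun e => n2 e.symm, fun e => n3 e.symm, fun e => n4 e.symm⟩) (Set.toFinite _),
      finsum_mem_insert _ (by simp [n23, n24]) (Set.toFinite _),
      finsum_mem_insert _ (by simp [n34]) (Set.toFinite _), finsum_mem_singleton, v2, v3, v4,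
      Cfsg.Agent.Block.charDeg_spec' ζ₂, Cfsg.Agent.Block.charDeg_spec' ζ₃,
      Cfsg.Agent.Block.charDeg_spec' ζ₄, h.card_L] at heq
    apply Rat.cast_injective (α := ℂ)
    have ha0 : (fixA L τ : ℂ) ≠ 0 := Nat.cast_ne_zero.2 Nat.card_pos.ne'
    have hb0' : (fixA L (w * τ) : ℂ) ≠ 0 := Nat.cast_ne_zero.2 Nat.card_pos.ne'
    refine mul_left_cancel₀ (mul_ne_zero ha0 hb0') ?_
    unfold fixA at heq ⊢
    rcases hε with rfl | rfl <;>
    · push_cast at heq ⊢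
      linear_combination heq
  · by_cases hgood : 5 ≤ Cfsg.charDegree (ζ₂ : ↥h.X → ℂ) ∧ (ε = 1 → 5 ≤ Cfsg.charDegree (ζ₃ : ↥h.X → ℂ))
    · exact .inl hgood
    right
    have hp2 := Cfsg.Agent.Block.charDeg_pos ζ₂
    have hp3 := Cfsg.Agent.Block.charDeg_pos ζ₃
    by_cases h2 : 5 ≤ Cfsg.charDegree (ζ₂ : ↥h.X → ℂ)
    · have h3 : ε = 1 ∧ Cfsg.charDegree (ζ₃ : ↥h.X → ℂ) = 1 := by
        rcases hε with rfl | rfl
        · refine ⟨rfl, ?_⟩
          have : ¬ 5 ≤ Cfsg.charDegree (ζ₃ : ↥h.X → ℂ) := fun h3 => hgood ⟨h2, fun _ => h3⟩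
          omega
        · exact absurd ⟨h2, fun e => absurd e (by norm_num)⟩ hgood
      refine ⟨ζ₃, by rw [hB]; exact .inr (.inr (.inl rfl)), ?_, n3, fun z hz => ?_⟩
      · rw [Cfsg.Agent.Block.charDeg_spec' ζ₃, h3.2, Nat.cast_one]
      · rw [(hval z hz).2.1, h3.1, Int.cast_one]
    · refine ⟨ζ₂, by rw [hB]; exact .inr (.inl rfl), ?_, n2, fun z hz => (hval z hz).1⟩
      rw [Cfsg.Agent.Block.charDeg_spec' ζ₂,
        show Cfsg.charDegree (ζ₂ : ↥h.X → ℂ) = 1 by omega, Nat.cast_one]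

end Cfsg.Agent.Invol.SmallCent
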