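import Cfsg.Agent.Lib.Invol.SmallCent.Fixer
import Cfsg.Agent.Lib.Grp.Cores

/-!
The centralizer `X` of `A` as a group: Klein four Sylow 2-subgroup, one class of involutions, and
the involution centralizer.
-/

namespace Cfsg.Agent.Invol.SmallCent

open Cfsg.Agent.Block.Dih (Odd2 invCount)

variable {G : Type*} [Group G] [Finite G] {S : Sylow 2 G} {w τ : G} {L : Subgroup G}

theorem Setup.t_mem_four (h : Setup S w τ L) : w ^ 2 ∈ h.four :=
  Subgroup.mem_inf.2 ⟨pow_mem h.memS 2, Subgroup.mem_centralizer_singleton_iff.2 h.tau_comm.symm⟩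

theorem Setup.tau_mem_four (h : Setup S w τ L) : τ ∈ h.four :=
  Subgroup.mem_inf.2 ⟨h.mem_tau, Subgroup.mem_centralizer_singleton_iff.2 rfl⟩

theorem Setup.four_klein (h : Setup S w τ L) : IsKleinFour ↥(h.four.subgroupOf h.X) := by
  have e : ↥(h.four.subgroupOf h.X) ≃* ↥h.four := Subgroup.subgroupOfEquivOfLe h.four_le_X
  have h4 : IsKleinFour ↥h.four := by
    refine ⟨h.card_four, ?_⟩
    haveI : Nontrivial h.four := Finite.one_lt_card_iff_nontrivial.1 (by rw [h.card_four]; norm_num)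
    refine ((Nat.dvd_prime Nat.prime_two).1 (Monoid.exponent_dvd_of_forall_pow_eq_one ?_)).resolve_left ?_
    · rintro ⟨v, hv⟩
      refine Subtype.ext ?_
      show v ^ 2 = 1
      rcases h.mem_four hv with rfl | rfl | rfl | rfl
      · exact one_pow 2
      · rw [pow_two (w ^ 2), pow_two]; exact h.w_four
      · rw [pow_two]; exact h.tau_sq
      · rw [(show Commute (w ^ 2) τ from h.tau_comm.symm).mul_pow, pow_two τ, h.tau_sq, mul_one,
          pow_two (w ^ 2), pow_two]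
        exact h.w_four
    · intro he
      have h1 := Monoid.pow_exponent_eq_one (⟨τ, h.tau_mem_four⟩ : h.four)
      rw [he, pow_one] at h1
      exact h.tau_ne (congrArg Subtype.val h1)
  exact ⟨by rw [Nat.card_congr e.toEquiv]; exact h4.card_four,
    by rw [Monoid.exponent_eq_of_mulEquiv e]; exact h4.exponent_two⟩

theorem Setup.exists_sylow_X (h : Setup S w τ L) (hA : 1 < fixA L τ) :
    ∃ P : Sylow 2 ↥h.X, (P : Subgroup ↥h.X) = h.four.subgroupOf h.X := by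
  haveI : Fact (Nat.Prime 2) := ⟨Nat.prime_two⟩
  have hV : IsPGroup 2 ↥(h.four.subgroupOf h.X) :=
    IsPGroup.of_card (n := 2) (by rw [h.four_klein.card_four]; norm_num)
  obtain ⟨Q, hQ⟩ := hV.exists_le_sylow
  refine ⟨Q, (Subgroup.eq_of_le_of_card_ge hQ ?_).symm⟩
  rw [h.four_klein.card_four]
  set Q₀ := (Q : Subgroup ↥h.X).map h.X.subtype with hQ₀
  have hcard : Nat.card Q₀ = Nat.card (Q : Subgroup ↥h.X) :=
    (Nat.card_congr ((Q : Subgroup ↥h.X).equivMapOfInjective _ h.X.subtype_injective).toEquiv).symm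
  obtain ⟨R, hR⟩ := (Q.isPGroup'.map h.X.subtype).exists_le_sylow
  obtain ⟨c, hc⟩ := MulAction.exists_smul_eq G R S
  have hle : Nat.card Q₀ ∣ Nat.card (S : Subgroup G) := by
    rw [← Nat.card_congr (Sylow.equiv R S).toEquiv]
    exact Subgroup.card_dvd_of_le hR
  rw [h.data.card] at hle
  obtain ⟨j, hj⟩ := Q.isPGroup'.exists_card_eq
  rw [hcard, hj] at hle
  rw [hj]
  by_contra hlt
  have hj3 : j = 3 := by
    have h1 : j ≤ 3 := (Nat.pow_dvd_pow_iff_le_right (show 1 < 2 by norm_num)).1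
      (show 2 ^ j ∣ 2 ^ 3 by simpa using hle)
    by_contra hne
    have : 2 ^ j ≤ 2 ^ 2 := Nat.pow_le_pow_right (by norm_num) (by omega)
    omega
  have hQR : Q₀ = (R : Subgroup G) := Subgroup.eq_of_le_of_card_ge hR (by
    rw [hcard, hj, hj3, Nat.card_congr (Sylow.equiv R S).toEquiv, h.data.card]; norm_num)
  have hwR : w ∈ (MulAut.conj c) '' ((R : Subgroup G) : Set G) := by
    have h1 := h.memS
    rw [← hc] at h1
    exact h1
  obtain ⟨u, hu, huw⟩ := hwR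
  simp only [MulAut.conj_apply] at huw
  have huX : u ∈ h.X := by
    rw [← hQR] at hu
    exact Subgroup.map_subtype_le _ hu
  obtain ⟨a, ha, hne⟩ := h.exists_ne_inv hA
  have hu' : c * a * c⁻¹ ∈ Subgroup.zpowers w := by
    rw [← h.self, Subgroup.mem_centralizer_singleton_iff, ← huw]
    calc c * a * c⁻¹ * (c * u * c⁻¹) = c * (a * u) * c⁻¹ := by group
      _ = _ := by rw [h.mem_X.1 huX a ha]; group
  have ho : orderOf a ∣ 4 := by
    have := orderOf_dvd_of_mem_zpowers hu'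
    rwa [show c * a * c⁻¹ = MulAut.conj c a from rfl, MulEquiv.orderOf_eq, h.ow] at this
  have hodd : Nat.Coprime (orderOf a) 4 :=
    Nat.Coprime.coprime_dvd_left (Subgroup.orderOf_dvd_natCard _ ha)
      (show Nat.Coprime (Nat.card h.A) (2 ^ 2) from (Nat.coprime_two_right.2 h.odd_A).pow_right 2)
  have h1 := Nat.eq_one_of_dvd_coprimes hodd dvd_rfl ho
  rw [orderOf_eq_one_iff] at h1
  exact hne (by rw [h1, inv_one])

theorem Setup.one_class_X (h : Setup S w τ L) (hA : 1 < fixA L τ) (x : ↥h.X) (hx : orderOf x = 2) :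
    IsConj (⟨w ^ 2, h.four_le_X h.t_mem_four⟩ : ↥h.X) x := by
  haveI : Fact (Nat.Prime 2) := ⟨Nat.prime_two⟩
  obtain ⟨P, hP⟩ := h.exists_sylow_X hA
  have hp : IsPGroup 2 (Subgroup.zpowers x) := IsPGroup.of_card (n := 1) (by
    rw [Nat.card_zpowers, hx, pow_one])
  obtain ⟨R, hR⟩ := hp.exists_le_sylow
  obtain ⟨c, hc⟩ := MulAction.exists_smul_eq ↥h.X R P
  have hxP : c * x * c⁻¹ ∈ h.four.subgroupOf h.X := by
    rw [← hP, ← hc]
    exact ⟨x, hR (Subgroup.mem_zpowers x), rfl⟩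
  refine IsConj.trans ?_ (isConj_iff.2 ⟨c, rfl⟩ : IsConj x (c * x * c⁻¹)).symm
  obtain ⟨ρ, hρ, h1, h2⟩ := h.exists_cycle
  have hne : c * x * c⁻¹ ≠ 1 := by
    intro e
    rw [conj_eq_one_iff] at e
    rw [e, orderOf_one] at hx
    omega
  have hmem := h.mem_four (Subgroup.mem_subgroupOf.1 hxP)
  rcases hmem with e | e | e | e
  · exact absurd (Subtype.ext e) hne
  · exact isConj_iff.2 ⟨1, Subtype.ext (by simp [e])⟩
  · exact isConj_iff.2 ⟨⟨ρ, hρ⟩, Subtype.ext (by rw [e]; simpa using h1)⟩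
  · refine isConj_iff.2 ⟨⟨ρ, hρ⟩ * ⟨ρ, hρ⟩, Subtype.ext ?_⟩
    rw [e]
    show ρ * ρ * w ^ 2 * (ρ * ρ)⁻¹ = w ^ 2 * τ
    calc ρ * ρ * w ^ 2 * (ρ * ρ)⁻¹ = ρ * (ρ * w ^ 2 * ρ⁻¹) * ρ⁻¹ := by group
      _ = _ := by rw [h1, h2]

/-- The centralizer of the involution in `X`. -/
theorem Setup.odd2_X (h : Setup S w τ L) (hA : 1 < fixA L τ) :
    Odd2 (L.subgroupOf h.X)
      (Subgroup.centralizer ({⟨w ^ 2, h.four_le_X h.t_mem_four⟩} : Set ↥h.X))
      (h.four.subgroupOf h.X) := by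
  set t' : ↥h.X := ⟨w ^ 2, h.four_le_X h.t_mem_four⟩ with ht'
  have hmem : ∀ x : ↥h.X, x ∈ Subgroup.centralizer ({t'} : Set ↥h.X) ↔
      (x : G) * w ^ 2 = w ^ 2 * x := fun x => by
    rw [Subgroup.mem_centralizer_singleton_iff, Subtype.ext_iff]; rfl
  have hfour : ∀ v ∈ h.four, v * w ^ 2 = w ^ 2 * v := fun v hv =>
    Subgroup.mem_centralizer_singleton_iff.1 (h.odd2.ple (Subgroup.mem_inf.1 hv).1)
  refine ⟨?_, fun x hx => (hmem x).2 (h.comm_t (Subgroup.mem_subgroupOf.1 hx)), ?_,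
    fun x hx => (hmem x).2 (hfour _ (Subgroup.mem_subgroupOf.1 hx)), ?_, ?_⟩
  · rw [Nat.card_congr (Subgroup.subgroupOfEquivOfLe h.L_le_X).toEquiv]
    exact h.odd2.odd
  · intro x hx
    refine Subgroup.mem_normalizer_iff.2 fun y => ?_
    simp only [Subgroup.mem_subgroupOf, Subgroup.coe_mul, Subgroup.coe_inv]
    exact Subgroup.mem_normalizer_iff.1
      (h.odd2.norm (Subgroup.mem_centralizer_singleton_iff.2 ((hmem x).1 hx))) (y : G)
  · rw [eq_bot_iff]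
    intro x hx
    have h1 : (x : G) ∈ L ⊓ (S : Subgroup G) := Subgroup.mem_inf.2
      ⟨(Subgroup.mem_inf.1 hx).1, (Subgroup.mem_inf.1 (Subgroup.mem_subgroupOf.1 (Subgroup.mem_inf.1 hx).2)).1⟩
    rw [h.odd2.disj, Subgroup.mem_bot] at h1
    exact Subgroup.mem_bot.2 (Subtype.ext h1)
  · rw [← Nat.card_prod]
    refine (Nat.card_congr (Equiv.ofBijective
      (fun q : ↥(L.subgroupOf h.X) × ↥(h.four.subgroupOf h.X) =>
        (⟨(q.1 : ↥h.X) * (q.2 : ↥h.X), (hmem _).2 (by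
          show ((q.1 : ↥h.X) : G) * ((q.2 : ↥h.X) : G) * w ^ 2 =
            w ^ 2 * (((q.1 : ↥h.X) : G) * ((q.2 : ↥h.X) : G))
          rw [mul_assoc, hfour _ (Subgroup.mem_subgroupOf.1 q.2.2), ← mul_assoc,
            h.comm_t (Subgroup.mem_subgroupOf.1 q.1.2), mul_assoc])⟩ :
          Subgroup.centralizer ({t'} : Set ↥h.X))) ⟨?_, ?_⟩)).symm
    · rintro ⟨⟨⟨l, _⟩, hl⟩, ⟨⟨v, _⟩, hv⟩⟩ ⟨⟨⟨l', _⟩, hl'⟩, ⟨⟨v', _⟩, hv'⟩⟩ e
      have e' : l * v = l' * v' :=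
        congrArg (fun y : Subgroup.centralizer ({t'} : Set ↥h.X) => ((y : ↥h.X) : G)) e
      have e2 := h.odd2.mul_bijective.1
        (a₁ := (⟨l, Subgroup.mem_subgroupOf.1 hl⟩, ⟨v, (Subgroup.mem_inf.1 (Subgroup.mem_subgroupOf.1 hv)).1⟩))
        (a₂ := (⟨l', Subgroup.mem_subgroupOf.1 hl'⟩, ⟨v', (Subgroup.mem_inf.1 (Subgroup.mem_subgroupOf.1 hv')).1⟩))
        (Subtype.ext e')
      simp only [Prod.mk.injEq, Subtype.mk.injEq] at e2
      exact Prod.ext (Subtype.ext (Subtype.ext e2.1)) (Subtype.ext (Subtype.ext e2.2))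
    · rintro ⟨x, hx⟩
      obtain ⟨l, hl, v, hv, e⟩ := h.mem_cent_X hA x.2 ((hmem x).1 hx)
      exact ⟨(⟨⟨l, h.L_le_X hl⟩, Subgroup.mem_subgroupOf.2 hl⟩,
        ⟨⟨v, h.four_le_X hv⟩, Subgroup.mem_subgroupOf.2 hv⟩), Subtype.ext (Subtype.ext e.symm)⟩

theorem Setup.card_cent_X (h : Setup S w τ L) (hA : 1 < fixA L τ) :
    Nat.card (Subgroup.centralizer ({⟨w ^ 2, h.four_le_X h.t_mem_four⟩} : Set ↥h.X)) =
      Nat.card L * 4 := by
  rw [(h.odd2_X hA).card, Nat.card_congr (Subgroup.subgroupOfEquivOfLe h.L_le_X).toEquiv,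
    h.four_klein.card_four]

end Cfsg.Agent.Invol.SmallCent
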