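import Cfsg.Agent.Lib.Invol.SmallCent.Block

/-!
The numerical parameters of a simple group with a self-centralizing cyclic subgroup of order four.
-/

open scoped ComplexConjugate

namespace Cfsg.Agent.Invol.SmallCent

open Cfsg.Agent.Char

variable {G : Type*} [Group G] [Finite G] {S : Sylow 2 G} {w τ : G} {L : Subgroup G}

theorem Setup.val_invol (h : Setup S w τ L) (χ : Cfsg.IrrCharacter G) {z : G} (hz : orderOf z = 2) :
    (χ : G → ℂ) z = (χ : G → ℂ) (w ^ 2) := by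
  obtain ⟨c, hc⟩ := isConj_iff.1 (h.one z hz)
  rw [← hc]
  exact IsIrr.classFun χ.2 _ _

theorem Setup.sum_sylow (h : Setup S w τ L) (χ : Cfsg.IrrCharacter G) :
    ∃ N : ℕ, (Cfsg.charDegree (χ : G → ℂ) : ℂ) + (χ : G → ℂ) w + (χ : G → ℂ) (w ^ 3) +
      5 * (χ : G → ℂ) (w ^ 2) = 8 * (N : ℂ) := by
  classical
  cases nonempty_fintype ↥(S : Subgroup G)
  obtain ⟨N, hN⟩ := IsChar.classInner_nat (IsChar.res (IsIrr.isCharacter χ.2) (S : Subgroup G))
    IsChar.one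
  refine ⟨N, ?_⟩
  rw [← hN, Cfsg.classInner, h.data.card, show ((2 * 4 : ℕ) : ℂ) = 8 by norm_num,
    mul_inv_cancel_left₀ (by norm_num)]
  simp only [map_one, mul_one]
  rw [h.data.sum_elements h.mem_tau h.rel (fun x => (χ : G → ℂ) x)]
  have hrefl : ∀ i : ℕ, (χ : G → ℂ) (τ * w ^ i) = (χ : G → ℂ) (w ^ 2) := by
    intro i
    refine h.val_invol χ (orderOf_eq_prime ?_ ?_)
    · calc (τ * w ^ i) ^ 2 = (τ * w ^ i * τ⁻¹) * (τ * τ) * w ^ i := by rw [pow_two]; group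
        _ = 1 := by rw [← conj_pow, h.rel, h.tau_sq, mul_one, inv_pow, inv_mul_cancel]
    · intro e
      refine h.tau_not_rot ?_
      rw [eq_inv_of_mul_eq_one_left e]
      exact inv_mem (pow_mem (Subgroup.mem_zpowers w) i)
  simp only [Finset.sum_range_succ, Finset.sum_range_zero, zero_add, hrefl, pow_zero, pow_one]
  rw [Cfsg.Agent.Block.charDeg_spec' χ]
  ring

/-- A nonprincipal character of the block has degree at least eight if the reflection fixes a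
nontrivial element of the core. -/
theorem Setup.eight_le [IsSimpleGroup G] (h : Setup S w τ L) {M : Ideal Cfsg.AlgInt}
    (hM : Cfsg.IsPModular 2 M) {χ : Cfsg.IrrCharacter G} (hB : χ ∈ Cfsg.principalBlock M G)
    (h1 : (χ : G → ℂ) ≠ fun _ => 1) {e : ℂ} (he : e = 1 ∨ e = -1)
    (hval : (χ : G → ℂ) (w ^ 2) = e) (hA : 1 < fixA L τ) :
    8 ≤ Cfsg.charDegree (χ : G → ℂ) := by
  classical
  set d := Cfsg.charDegree (χ : G → ℂ) with hd
  obtain ⟨p, hp, hpd⟩ := Nat.exists_prime_and_dvd (show fixA L τ ≠ 1 by omega)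
  haveI := Fact.mk hp
  obtain ⟨α₀, hα₀⟩ := exists_prime_orderOf_dvd_card'
    (G := ↥(L ⊓ Subgroup.centralizer ({τ} : Set G))) p hpd
  have hα : orderOf (α₀ : G) = p := by rw [Subgroup.orderOf_coe, hα₀]
  obtain ⟨hαL, hατ⟩ := Subgroup.mem_inf.1 α₀.2
  have hp2 : p ≠ 2 := by
    rintro rfl
    exact h.odd2.odd (hα ▸ Subgroup.orderOf_dvd_natCard L hαL)
  set α : G := (α₀ : G)
  have hατ' : Commute α τ := Subgroup.mem_centralizer_singleton_iff.1 hατ
  have hcomm : ∀ v ∈ h.four, Commute α v := by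
    intro v hv
    rcases h.mem_four hv with rfl | rfl | rfl | rfl
    · exact Commute.one_right _
    · exact h.comm_t hαL
    · exact hατ'
    · exact (show Commute α (w ^ 2) from h.comm_t hαL).mul_right hατ'
  have hconst : ∀ k : ℕ, ∀ v ∈ h.four, v ≠ 1 → (χ : G → ℂ) (α ^ k * v) = e := by
    intro k v hv hv1
    have hvv : v * v = 1 := by
      rcases h.mem_four hv with rfl | rfl | rfl | rfl
      · exact one_mul 1
      · rw [pow_two]; exact h.w_four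
      · exact h.tau_sq
      · calc w ^ 2 * τ * (w ^ 2 * τ) = w ^ 2 * (τ * w ^ 2) * τ := by group
          _ = (w * w * (w * w)) * (τ * τ) := by rw [h.tau_comm, pow_two]; group
          _ = 1 := by rw [h.w_four, h.tau_sq, one_mul]
    have hv2 : orderOf v = 2 := orderOf_eq_prime (by rw [pow_two]; exact hvv) hv1
    have hc := h.data.section_const hM ⟨1, by rw [hv2, pow_one]⟩ (h.data.complement v hv2)
      (v := ⟨α ^ k, Subgroup.mem_centralizer_singleton_iff.2 ((hcomm v hv).pow_left k).eq⟩) (by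
        rw [← Subgroup.orderOf_coe]
        intro h2
        have h3 := h2.trans (Subgroup.orderOf_dvd_natCard L (pow_mem hαL k))
        exact h.odd2.odd h3) hB
    rw [((hcomm v hv).pow_left k).eq, hc, h.val_invol χ hv2, hval]
  have hreal : ∀ k : ℕ, (χ : G → ℂ) (α ^ k)⁻¹ = (χ : G → ℂ) (α ^ k) := fun k => by
    rw [← h.inv _ (pow_mem hαL k)]
    exact IsIrr.classFun χ.2 _ _
  have hne : (χ : G → ℂ) α ≠ (χ : G → ℂ) 1 := by
    intro hk
    have hn : (charKer (IsIrr.isCharacter χ.2)).Normal := MonoidHom.normal_ker _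
    rcases hn.eq_bot_or_eq_top with hb | ht
    · have h2 : α = 1 := by
        rw [← Subgroup.mem_bot, ← hb]
        exact (mem_charKer _).2 hk
      rw [h2, orderOf_one] at hα
      exact hp.ne_one hα.symm
    · have hall : ∀ g : G, (χ : G → ℂ) g = (d : ℂ) := fun g => by
        rw [(mem_charKer (IsIrr.isCharacter χ.2)).1 (by rw [ht]; exact Subgroup.mem_top g), hd]
        exact Cfsg.Agent.Block.charDeg_spec' χ
      have h2 := (hall (w ^ 2)).symm.trans hval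
      have hd1 : (d : ℂ) = 1 := by
        rcases he with rfl | rfl
        · exact h2
        · exfalso
          have h3 : ((d + 1 : ℕ) : ℂ) = ((0 : ℕ) : ℂ) := by push_cast; rw [h2]; ring
          exact absurd (Nat.cast_injective h3) (Nat.succ_ne_zero d)
      exact h1 (funext fun g => (hall g).trans hd1)
  exact eight_le_degree (IsIrr.isCharacter χ.2) hp hp2 hα h.card_four hcomm hconst hreal hne
    (Cfsg.Agent.Block.charDeg_spec' χ)

/-- The parameters. -/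
theorem Setup.exists_params [IsSimpleGroup G] (h : Setup S w τ L) :
    ∃ k δ u v : ℤ, 0 < k ∧ (δ = 1 ∨ δ = -1) ∧ u + v = -2 * δ * (4 * k + δ) ∧
      (Nat.card G : ℤ) * k ^ 2 = (8 * k + δ) * (2 * (4 * k + δ)) *
        ((fixA L τ : ℤ) * fixA L (w * τ)) * ((fixA L τ : ℤ) + fixA L (w * τ)) ^ 2 ∧
      u * v * ((4 * k + δ) ^ 2 * ((fixA L τ : ℤ) + fixA L (w * τ)) ^ 2 -
          64 * fixA L τ * fixA L (w * τ) * k ^ 2) =
        δ * (8 * k + δ) * (4 * k + δ) ^ 2 * ((fixA L τ : ℤ) + fixA L (w * τ)) ^ 2 ∧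
      (8 : ℤ) ∣ u - 3 ∧ (8 : ℤ) ∣ v - 3 ∧
      (1 < fixA L τ → (δ = -1 → 2 ≤ k) ∧ (8 ≤ u ∨ u ≤ -8) ∧ (8 ≤ v ∨ v ≤ -8)) := by
  classical
  obtain ⟨M, hM⟩ := Cfsg.Agent.Char.exists_isPModular 2 Nat.prime_two
  have hP : Nonempty (↥(S : Subgroup G) ≃* DihedralGroup (2 ^ (3 - 1))) := by
    refine Cfsg.Agent.Block.Dih.dihedral_equiv S (m := 2 ^ (3 - 1)) (by rw [h.ow]; norm_num) h.otau
      h.rel ?_ (by norm_num)
    refine le_antisymm ((Subgroup.closure_le _).2 ?_) fun x hx => ?_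
    · rintro y (rfl | rfl)
      exacts [h.memS, h.mem_tau]
    · have hrot : ∀ y ∈ Subgroup.zpowers w, y ∈ Subgroup.closure ({w, τ} : Set G) :=
        fun y hy => Subgroup.zpowers_le.2 (Subgroup.subset_closure (Set.mem_insert _ _)) hy
      rcases h.data.cases x hx with hr | ⟨-, -, hxw⟩
      · exact hrot x hr
      · have h2 : τ * x ∈ Subgroup.zpowers w := by
          rw [← h.self, Subgroup.mem_centralizer_singleton_iff, ← mul_inv_eq_iff_eq_mul]
          calc τ * x * w * (τ * x)⁻¹ = τ * (x * w * x⁻¹) * τ⁻¹ := by group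
            _ = (τ * w * τ⁻¹)⁻¹ := by rw [hxw]; group
            _ = w := by rw [h.rel, inv_inv]
        rw [show x = τ⁻¹ * (τ * x) by group]
        exact mul_mem (inv_mem (Subgroup.subset_closure (Set.mem_insert_of_mem _ rfl))) (hrot _ h2)
  have hgen : Subgroup.closure ({w, τ} : Set G) = (S : Subgroup G) := by
    refine le_antisymm ((Subgroup.closure_le _).2 ?_) fun x hx => ?_
    · rintro y (rfl | rfl)
      exacts [h.memS, h.mem_tau]
    · have hrot : ∀ y ∈ Subgroup.zpowers w, y ∈ Subgroup.closure ({w, τ} : Set G) :=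
        fun y hy => Subgroup.zpowers_le.2 (Subgroup.subset_closure (Set.mem_insert _ _)) hy
      rcases h.data.cases x hx with hr | ⟨-, -, hxw⟩
      · exact hrot x hr
      · have h2 : τ * x ∈ Subgroup.zpowers w := by
          rw [← h.self, Subgroup.mem_centralizer_singleton_iff, ← mul_inv_eq_iff_eq_mul]
          calc τ * x * w * (τ * x)⁻¹ = τ * (x * w * x⁻¹) * τ⁻¹ := by group
            _ = (τ * w * τ⁻¹)⁻¹ := by rw [hxw]; group
            _ = w := by rw [h.rel, inv_inv]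
        rw [show x = τ⁻¹ * (τ * x) by group]
        exact mul_mem (inv_mem (Subgroup.subset_closure (Set.mem_insert_of_mem _ rfl))) (hrot _ h2)
  obtain ⟨-, χ₁, χ₂, χ₃, χ', δ₁, δ₂, δ₃, hδ₁, hδ₂, hδ₃, -, n1, n2, n3, n12, n13, n23, n', hB, hval,
    hdeg⟩ := Cfsg.Agent.S4481.result M hM 3 le_rfl S hP w h.memS (by rw [h.ow]; norm_num) Complex.I
      (by simpa using Complex.isPrimitiveRoot_I)
  have hmem : ∀ χ, χ = χ₁ ∨ χ = χ₂ ∨ χ = χ₃ → χ ∈ Cfsg.principalBlock M G := fun χ hχ => by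
    rw [hB]
    rcases hχ with e | e | e
    exacts [.inr (.inl e), .inr (.inr (.inl e)), .inr (.inr (.inr (.inl e)))]
  set j₀ : Fin (2 ^ (3 - 2) - 1) := ⟨0, by norm_num⟩ with hj₀
  have hj : ∀ j : Fin (2 ^ (3 - 2) - 1), j = j₀ := fun j => Fin.ext (by have := j.2; simp at this; simp [hj₀, this])
  obtain ⟨a1, b1, c1, e1⟩ := hval 1 one_pos (by norm_num)
  obtain ⟨a2, b2, c2, -⟩ := hval 2 two_pos (by norm_num)
  obtain ⟨a3, b3, c3, -⟩ := hval 3 (by norm_num) (by norm_num)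
  rw [pow_one] at a1 b1 c1
  have b1' : (χ₂ : G → ℂ) w = δ₂ := by rw [b1]; ring
  have c1' : (χ₃ : G → ℂ) w = δ₃ := by rw [c1]; ring
  have e0 : (χ' j₀ : G → ℂ) w = 0 := by
    have := e1 j₀
    rw [pow_one] at this
    rw [this, hj₀]
    simp
  set x := Cfsg.charDegree (χ₁ : G → ℂ) with hx
  set d₂ := Cfsg.charDegree (χ₂ : G → ℂ) with hd2
  set d₃ := Cfsg.charDegree (χ₃ : G → ℂ) with hd3
  -- congruences
  have hxmod : (8 : ℤ) ∣ (x : ℤ) - δ₁ := by
    obtain ⟨N, hN⟩ := h.sum_sylow χ₁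
    rw [a1, a2, a3] at hN
    have hN' : ((x + 7 * δ₁ : ℤ) : ℂ) = ((8 * N : ℤ) : ℂ) := by push_cast; linear_combination hN
    have h2 := Int.cast_injective hN'
    rcases hδ₁ with rfl | rfl <;> omega
  have humod : (8 : ℤ) ∣ δ₂ * d₂ - 3 := by
    obtain ⟨N, hN⟩ := h.sum_sylow χ₂
    rw [b1, b2, b3] at hN
    have hN' : ((d₂ - 3 * δ₂ : ℤ) : ℂ) = ((8 * N : ℤ) : ℂ) := by push_cast; linear_combination hN
    have h2 := Int.cast_injective hN'
    rcases hδ₂ with rfl | rfl <;> omega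
  have hvmod : (8 : ℤ) ∣ δ₃ * d₃ - 3 := by
    obtain ⟨N, hN⟩ := h.sum_sylow χ₃
    rw [c1, c2, c3] at hN
    have hN' : ((d₃ - 3 * δ₃ : ℤ) : ℂ) = ((8 * N : ℤ) : ℂ) := by push_cast; linear_combination hN
    have h2 := Int.cast_injective hN'
    rcases hδ₃ with rfl | rfl <;> omega
  have hsum : (1 : ℤ) + δ₁ * x = -δ₂ * d₂ - δ₃ * d₃ := by
    have h1 := (hdeg 1 (by rw [orderOf_one]; exact odd_one) j₀).1
    rw [Cfsg.Agent.Block.charDeg_spec' χ₁, Cfsg.Agent.Block.charDeg_spec' χ₂,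
      Cfsg.Agent.Block.charDeg_spec' χ₃] at h1
    exact_mod_cast h1
  -- the order formula
  obtain ⟨hxne, hord⟩ := Cfsg.Agent.S4482.result M hM 3 le_rfl S w τ h.memS h.mem_tau
    (by rw [h.ow]; norm_num) h.otau h.rel hgen
    ⟨by simpa using h.one τ h.otau, by simpa using h.one _ h.swap.otau⟩
    χ₁ (hmem _ (.inl rfl)) n1 δ₁ hδ₁ (fun l hl hl' => (hval l hl hl').1)
  rw [show 2 ^ (3 - 2) = 2 by norm_num, h.card_pair, h.swap.card_pair, h.card_centralizer,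
    h.card_L] at hord
  set a := fixA L τ with ha
  set b := fixA L (w * τ) with hb
  have ha0 : (a : ℚ) ≠ 0 := Nat.cast_ne_zero.2 Nat.card_pos.ne'
  have hb0 : (b : ℚ) ≠ 0 := Nat.cast_ne_zero.2 Nat.card_pos.ne'
  obtain ⟨k, hk⟩ := hxmod
  have hxk : (x : ℤ) = 8 * k + δ₁ := by omega
  have hxpos : 0 < x := Cfsg.Agent.Block.charDeg_pos χ₁
  have hk0 : 0 < k := by rcases hδ₁ with rfl | rfl <;> omega
  have hordQ : (Nat.card G : ℚ) * (k : ℚ) ^ 2 = (8 * (k : ℚ) + δ₁) * (2 * (4 * (k : ℚ) + δ₁)) *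
      ((a : ℚ) * b) * ((a : ℚ) + b) ^ 2 := by
    have hxQ : (x : ℚ) = 8 * (k : ℚ) + δ₁ := by exact_mod_cast hxk
    change (Nat.card G : ℚ) * ((x : ℚ) - δ₁) ^ 2 =
      2 * (x : ℚ) * ((x : ℚ) + δ₁) * ((a * b * 8 : ℕ) : ℚ) ^ 3 *
        (1 / ((a * 4 : ℕ) : ℚ) + 1 / ((b * 4 : ℕ) : ℚ)) ^ 2 at hord
    push_cast at hord
    rw [hxQ] at hord
    have e : ((a : ℚ) * b * 8) ^ 3 * (1 / ((a : ℚ) * 4) + 1 / ((b : ℚ) * 4)) ^ 2 =
        32 * a * b * ((a : ℚ) + b) ^ 2 := by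
      field_simp
      ring
    rw [mul_assoc (2 * (8 * (k : ℚ) + δ₁) * (8 * (k : ℚ) + δ₁ + δ₁)), e] at hord
    linear_combination (1 / 64 : ℚ) * hord
  have hordZ : (Nat.card G : ℤ) * k ^ 2 = (8 * k + δ₁) * (2 * (4 * k + δ₁)) * ((a : ℤ) * b) *
      ((a : ℤ) + b) ^ 2 := by exact_mod_cast hordQ
  -- the pair equation
  have hpair := h.pair_equation hM
  rw [← ha, ← hb] at hpair
  have hBset : Cfsg.principalBlock M G =
      insert (⟨fun _ => 1, isIrr_one⟩ : Cfsg.IrrCharacter G) ({χ₁, χ₂, χ₃, χ' j₀} : Set _) := by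
    rw [hB]
    ext χ
    simp only [Set.mem_setOf_eq, Set.mem_insert_iff, Set.mem_singleton_iff, Subtype.ext_iff]
    refine or_congr Iff.rfl (or_congr Iff.rfl (or_congr Iff.rfl (or_congr Iff.rfl ?_)))
    exact ⟨fun ⟨j, hj'⟩ => hj j ▸ hj', fun e => ⟨j₀, e⟩⟩
  obtain ⟨p1, p2, p3, p0⟩ := n' j₀
  rw [hBset, finsum_mem_insert _ (by
      simp only [Set.mem_insert_iff, Set.mem_singleton_iff, Subtype.ext_iff, not_or]
      exact ⟨fun e => n1 e.symm, fun e => n2 e.symm, fun e => n3 e.symm, fun e => p0 e.symm⟩)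
    (Set.toFinite _), finsum_mem_insert _ (by simp [n12, n13, p1.symm]) (Set.toFinite _),
    finsum_mem_insert _ (by simp [n23, p2.symm]) (Set.toFinite _),
    finsum_mem_insert _ (by simp [p3.symm]) (Set.toFinite _), finsum_mem_singleton, e0, mul_zero,
    add_zero, b1', c1', a1, a2, b2, c2, Cfsg.Agent.Block.charDeg_spec' χ₁,
    Cfsg.Agent.Block.charDeg_spec' χ₂, Cfsg.Agent.Block.charDeg_spec' χ₃, ← hx, ← hd2, ← hd3] at hpair
  have hu0 : δ₂ * (d₂ : ℤ) ≠ 0 := by omega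
  have hv0 : δ₃ * (d₃ : ℤ) ≠ 0 := by omega
  have hcast : (Nat.card G : ℚ) * (1 + (δ₁ : ℚ) / (8 * k + δ₁) + 1 / ((δ₂ * d₂ : ℤ) : ℚ) +
      1 / ((δ₃ * d₃ : ℤ) : ℚ)) = 256 * (a : ℚ) ^ 2 * (b : ℚ) ^ 2 := by
    apply (Rat.cast_injective (α := ℂ))
    have hd20 : (d₂ : ℂ) ≠ 0 := Nat.cast_ne_zero.2 (Cfsg.Agent.Block.charDeg_pos χ₂).ne'
    have hd30 : (d₃ : ℂ) ≠ 0 := Nat.cast_ne_zero.2 (Cfsg.Agent.Block.charDeg_pos χ₃).ne'
    have hx0 : (x : ℂ) ≠ 0 := Nat.cast_ne_zero.2 hxpos.ne'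
    have hxC : (8 * (k : ℂ) + δ₁) = (x : ℂ) := by exact_mod_cast hxk.symm
    push_cast
    rw [hxC, ← hpair]
    rcases hδ₁ with rfl | rfl <;> rcases hδ₂ with rfl | rfl <;> rcases hδ₃ with rfl | rfl <;>
      simp <;> field_simp <;> ring_nf <;> exact Or.inl trivial
  have hsum' : δ₂ * (d₂ : ℤ) + δ₃ * (d₃ : ℤ) = -2 * δ₁ * (4 * k + δ₁) := by
    have e : δ₁ * δ₁ = 1 := by rcases hδ₁ with rfl | rfl <;> norm_num
    rw [hxk] at hsum
    linear_combination hsum + e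
  have huv := uv_eq (a := (a : ℚ)) (b := (b : ℚ)) (k := (k : ℚ)) (δ := (δ₁ : ℚ))
    (u := ((δ₂ * d₂ : ℤ) : ℚ)) (v := ((δ₃ * d₃ : ℤ) : ℚ)) (g := (Nat.card G : ℚ))
    (by exact_mod_cast hsum') hordQ (by exact_mod_cast hδ₁) (Int.cast_ne_zero.2 hu0)
    (Int.cast_ne_zero.2 hv0) (Nat.cast_ne_zero.2 Nat.card_pos.ne')
    (Int.cast_ne_zero.2 hk0.ne') (by exact_mod_cast (show (8 * k + δ₁ : ℤ) ≠ 0 by omega)) hcast
  refine ⟨k, δ₁, δ₂ * d₂, δ₃ * d₃, hk0, hδ₁, hsum', hordZ, by exact_mod_cast huv, humod, hvmod,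
    fun hA => ?_⟩
  have l1 := h.eight_le hM (hmem _ (.inl rfl)) n1 (e := (δ₁ : ℂ))
    (by exact_mod_cast hδ₁) a2 hA
  have l2 := h.eight_le hM (hmem _ (.inr (.inl rfl))) n2 (e := (δ₂ * (-1) ^ (2 + 1) : ℂ))
    (by rcases hδ₂ with rfl | rfl <;> norm_num) b2 hA
  have l3 := h.eight_le hM (hmem _ (.inr (.inr rfl))) n3 (e := (δ₃ * (-1) ^ (2 + 1) : ℂ))
    (by rcases hδ₃ with rfl | rfl <;> norm_num) c2 hA
  rw [← hx] at l1
  rw [← hd2] at l2
  rw [← hd3] at l3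
  refine ⟨fun hd => by omega, ?_, ?_⟩
  · rcases hδ₂ with rfl | rfl <;> omega
  · rcases hδ₃ with rfl | rfl <;> omega

end Cfsg.Agent.Invol.SmallCent
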