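import Cfsg.Agent.Lib.Invol.SmallCent.FixerBlock
import Cfsg.Agent.Lib.Fus.SmallSimple

/-!
Both reflections cannot fix nontrivial elements of the core.
-/

namespace Cfsg.Agent.Invol.SmallCent

open Cfsg.Agent.Char

variable {G : Type*} [Group G] [Finite G] {S : Sylow 2 G} {w τ : G} {L : Subgroup G}

theorem Setup.cycle_t (h : Setup S w τ L) {ρ : G} (h1 : ρ * w ^ 2 * ρ⁻¹ = τ)
    (h2 : ρ * τ * ρ⁻¹ = w ^ 2 * τ) : ρ * (w ^ 2 * τ) * ρ⁻¹ = w ^ 2 := by
  calc ρ * (w ^ 2 * τ) * ρ⁻¹ = (ρ * w ^ 2 * ρ⁻¹) * (ρ * τ * ρ⁻¹) := by group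
    _ = _ := by
      rw [h1, h2, ← mul_assoc, h.tau_comm, mul_assoc, h.tau_sq, mul_one]

/-- An element of `X` normalising the four-group and fixing the involution centralises it. -/
theorem Setup.normalizer_fix (h : Setup S w τ L) (hA : 1 < fixA L τ) {n : G} (hn : n ∈ h.X)
    (hnv : n * τ * n⁻¹ ∈ h.four) (hnt : n * w ^ 2 * n⁻¹ = w ^ 2) : n * τ * n⁻¹ = τ := by
  obtain ⟨l, hl, v, hv, rfl⟩ := h.mem_cent_X hA hn (mul_inv_eq_iff_eq_mul.1 hnt)
  have hvτ : v * τ * v⁻¹ = τ :=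
    mul_inv_eq_iff_eq_mul.2 (Subgroup.mem_centralizer_singleton_iff.1 (Subgroup.mem_inf.1 hv).2)
  have e : l * v * τ * (l * v)⁻¹ = l * τ * l⁻¹ := by
    calc l * v * τ * (l * v)⁻¹ = l * (v * τ * v⁻¹) * l⁻¹ := by group
      _ = _ := by rw [hvτ]
  rw [e] at hnv ⊢
  have h1 : l * τ * l⁻¹ * τ⁻¹ ∈ L ⊓ (S : Subgroup G) := by
    refine Subgroup.mem_inf.2 ⟨?_, mul_mem (Subgroup.mem_inf.1 hnv).1 (inv_mem h.mem_tau)⟩
    rw [show l * τ * l⁻¹ * τ⁻¹ = l * (τ * l⁻¹ * τ⁻¹) by group]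
    exact L.mul_mem hl (h.normL h.mem_tau (L.inv_mem hl))
  rw [h.odd2.disj, Subgroup.mem_bot, mul_inv_eq_one] at h1
  exact h1

/-- The core of `X` when `X` has a proper normal subgroup containing the involution centralizer. -/
theorem Setup.fixer_core (h : Setup S w τ L) (hA : 1 < fixA L τ) (N : Subgroup ↥h.X) [N.Normal]
    (hN : N ≠ ⊤) (hV : h.four.subgroupOf h.X ≤ N) (hL : L.subgroupOf h.X ≤ N) :
    L ≤ (Cfsg.pPrimeCore 2 ↥h.X).map h.X.subtype := by
  classical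
  haveI : Fact (Nat.Prime 2) := ⟨Nat.prime_two⟩
  obtain ⟨P, hP⟩ := h.exists_sylow_X hA
  obtain ⟨ρ, hρX, hρ1, hρ2⟩ := h.exists_cycle
  set t' : ↥h.X := ⟨w ^ 2, h.four_le_X h.t_mem_four⟩ with ht'
  have hcent : ∀ x : ↥h.X, (x : G) * w ^ 2 * (x : G)⁻¹ = w ^ 2 → x ∈ N := by
    intro x hx
    obtain ⟨l, hl, v, hv, e⟩ := h.mem_cent_X hA x.2 (mul_inv_eq_iff_eq_mul.1 hx)
    rw [show x = ⟨l, h.L_le_X hl⟩ * ⟨v, h.four_le_X hv⟩ from Subtype.ext e]
    exact N.mul_mem (hL (Subgroup.mem_subgroupOf.2 hl)) (hV (Subgroup.mem_subgroupOf.2 hv))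
  -- an element of the normalizer of the four-group either fixes the involution or is a cycle
  have hnorm : ∀ n : ↥h.X, n ∈ Subgroup.normalizer ((h.four.subgroupOf h.X : Subgroup ↥h.X) : Set ↥h.X) →
      ∀ v ∈ h.four, (n : G) * v * (n : G)⁻¹ ∈ h.four := fun n hn v hv =>
    Subgroup.mem_subgroupOf.1 ((Subgroup.mem_normalizer_iff.1 hn ⟨v, h.four_le_X hv⟩).1
      (Subgroup.mem_subgroupOf.2 hv))
  have hcyc : ∀ n : ↥h.X, n ∈ Subgroup.normalizer ((h.four.subgroupOf h.X : Subgroup ↥h.X) : Set ↥h.X) →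
      (n : G) * w ^ 2 * (n : G)⁻¹ = w ^ 2 ∨
        ((n : G) * w ^ 2 * (n : G)⁻¹ = τ ∨ (n : G) * w ^ 2 * (n : G)⁻¹ = w ^ 2 * τ) := by
    intro n hn
    rcases h.mem_four (hnorm n hn _ h.t_mem_four) with e | e | e | e
    · exfalso
      rw [conj_eq_one_iff] at e
      have := h.ot
      rw [e, orderOf_one] at this
      omega
    · exact .inl e
    · exact .inr (.inl e)
    · exact .inr (.inr e)
  have hρN : (⟨ρ, hρX⟩ : ↥h.X) ∉ N := by
    intro hρ
    refine hN (eq_top_iff.2 ?_)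
    have hle : Subgroup.normalizer ((P : Subgroup ↥h.X) : Set ↥h.X) ≤ N := by
      intro n hn
      rw [hP] at hn
      rcases hcyc n hn with e | e | e
      · exact hcent n e
      · rw [show n = ⟨ρ, hρX⟩ * (⟨ρ, hρX⟩⁻¹ * n) by group]
        refine N.mul_mem hρ (hcent _ ?_)
        show ρ⁻¹ * (n : G) * w ^ 2 * (ρ⁻¹ * (n : G))⁻¹ = w ^ 2
        calc _ = ρ⁻¹ * ((n : G) * w ^ 2 * (n : G)⁻¹) * ρ := by group
          _ = _ := by rw [e, ← hρ1]; group
      · rw [show n = ⟨ρ, hρX⟩ * ⟨ρ, hρX⟩ * ((⟨ρ, hρX⟩ * ⟨ρ, hρX⟩)⁻¹ * n) by group]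
        refine N.mul_mem (N.mul_mem hρ hρ) (hcent _ ?_)
        show (ρ * ρ)⁻¹ * (n : G) * w ^ 2 * ((ρ * ρ)⁻¹ * (n : G))⁻¹ = w ^ 2
        calc _ = (ρ * ρ)⁻¹ * ((n : G) * w ^ 2 * (n : G)⁻¹) * (ρ * ρ) := by simp only [mul_inv_rev, inv_inv, mul_assoc]
          _ = _ := by rw [e, ← hρ2, ← hρ1]; group
    rw [← Sylow.normalizer_sup_eq_top' P (hP ▸ hV)]
    exact sup_le hle le_rfl
  have hfix : ∀ n : ↥h.X, n ∈ N →
      n ∈ Subgroup.normalizer ((h.four.subgroupOf h.X : Subgroup ↥h.X) : Set ↥h.X) →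
      ∀ v ∈ h.four, (n : G) * v * (n : G)⁻¹ = v := by
    intro n hnN hn
    have ht : (n : G) * w ^ 2 * (n : G)⁻¹ = w ^ 2 := by
      rcases hcyc n hn with e | e | e
      · exact e
      · refine absurd ?_ hρN
        rw [show (⟨ρ, hρX⟩ : ↥h.X) = n * ((⟨ρ, hρX⟩ : ↥h.X)⁻¹ * n)⁻¹ by group]
        refine N.mul_mem hnN (N.inv_mem (hcent _ ?_))
        show ρ⁻¹ * (n : G) * w ^ 2 * (ρ⁻¹ * (n : G))⁻¹ = w ^ 2
        calc _ = ρ⁻¹ * ((n : G) * w ^ 2 * (n : G)⁻¹) * ρ := by group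
          _ = _ := by rw [e, ← hρ1]; group
      · refine absurd ?_ hρN
        have hρρ : (⟨ρ, hρX⟩ : ↥h.X) * ⟨ρ, hρX⟩ ∈ N := by
          rw [show (⟨ρ, hρX⟩ : ↥h.X) * ⟨ρ, hρX⟩ = n * ((⟨ρ, hρX⟩ * ⟨ρ, hρX⟩ : ↥h.X)⁻¹ * n)⁻¹ by
            simp only [mul_inv_rev, inv_inv, mul_assoc, mul_inv_cancel_left]]
          refine N.mul_mem hnN (N.inv_mem (hcent _ ?_))
          show (ρ * ρ)⁻¹ * (n : G) * w ^ 2 * ((ρ * ρ)⁻¹ * (n : G))⁻¹ = w ^ 2
          calc _ = (ρ * ρ)⁻¹ * ((n : G) * w ^ 2 * (n : G)⁻¹) * (ρ * ρ) := by simp only [mul_inv_rev, inv_inv, mul_assoc]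
            _ = _ := by rw [e, ← hρ2, ← hρ1]; group
        have h3 : (⟨ρ, hρX⟩ : ↥h.X) * ⟨ρ, hρX⟩ * ⟨ρ, hρX⟩ ∈ N := by
          refine hcent _ ?_
          show ρ * ρ * ρ * w ^ 2 * (ρ * ρ * ρ)⁻¹ = w ^ 2
          calc _ = ρ * (ρ * (ρ * w ^ 2 * ρ⁻¹) * ρ⁻¹) * ρ⁻¹ := by group
            _ = _ := by rw [hρ1, hρ2, h.cycle_t hρ1 hρ2]
        have h4 := N.mul_mem (N.inv_mem hρρ) h3
        rwa [inv_mul_cancel_left] at h4
    have hτ := h.normalizer_fix hA n.2 (hnorm n hn _ h.tau_mem_four) ht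
    intro v hv
    rcases h.mem_four hv with rfl | rfl | rfl | rfl
    · group
    · exact ht
    · exact hτ
    · calc (n : G) * (w ^ 2 * τ) * (n : G)⁻¹ =
            ((n : G) * w ^ 2 * (n : G)⁻¹) * ((n : G) * τ * (n : G)⁻¹) := by group
        _ = _ := by rw [ht, hτ]
  -- Burnside
  let Q : Sylow 2 ↥N := P.subtype (hP ▸ hV)
  have hQ : ∀ x : ↥N, x ∈ (Q : Subgroup ↥N) ↔ ((x : ↥h.X) : G) ∈ h.four := fun x => by
    show x ∈ ((P.subtype (hP ▸ hV) : Sylow 2 ↥N) : Subgroup ↥N) ↔ _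
    rw [Sylow.coe_subtype, Subgroup.mem_subgroupOf, hP, Subgroup.mem_subgroupOf]
  have hburn : Subgroup.normalizer ((Q : Subgroup ↥N) : Set ↥N) ≤
      Subgroup.centralizer ((Q : Subgroup ↥N) : Set ↥N) := by
    intro n hn
    have hn' : (n : ↥h.X) ∈ Subgroup.normalizer ((h.four.subgroupOf h.X : Subgroup ↥h.X) : Set ↥h.X) := by
      refine Subgroup.mem_normalizer_iff.2 fun y => ⟨fun hy => ?_, fun hy => ?_⟩
      · have h1 := (Subgroup.mem_normalizer_iff.1 hn ⟨y, hV hy⟩).1 ((hQ _).2 (Subgroup.mem_subgroupOf.1 hy))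
        exact Subgroup.mem_subgroupOf.2 ((hQ _).1 h1)
      · have hyN : y ∈ N := by
          have h1 := N.mul_mem (N.mul_mem (N.inv_mem n.2) (hV hy)) n.2
          rwa [show (n : ↥h.X)⁻¹ * ((n : ↥h.X) * y * (n : ↥h.X)⁻¹) * n = y by group] at h1
        exact Subgroup.mem_subgroupOf.2 ((hQ ⟨y, hyN⟩).1
          ((Subgroup.mem_normalizer_iff.1 hn ⟨y, hyN⟩).2 ((hQ _).2 (Subgroup.mem_subgroupOf.1 hy))))
    refine Subgroup.mem_centralizer_iff.2 fun y hy => Subtype.ext (Subtype.ext ?_)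
    exact (mul_inv_eq_iff_eq_mul.1 (hfix n n.2 hn' _ ((hQ y).1 hy))).symm
  set K := (MonoidHom.transferSylow Q hburn).ker with hK
  have hKodd : ¬ 2 ∣ Nat.card K := MonoidHom.not_dvd_card_ker_transferSylow Q hburn
  have hKidx : K.index = 2 ^ 2 := by
    have h1 := (MonoidHom.ker_transferSylow_isComplement' Q hburn).symm.index_eq_card
    rw [hK, h1, show (Q : Subgroup ↥N) = (P : Subgroup ↥h.X).subgroupOf N from Sylow.coe_subtype P (hP ▸ hV),
      Nat.card_congr (Subgroup.subgroupOfEquivOfLe (hP ▸ hV : (P : Subgroup ↥h.X) ≤ N)).toEquiv, hP,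
      h.four_klein.card_four]
    norm_num
  have hKreg : ∀ y : ↥N, ¬ 2 ∣ orderOf y → y ∈ K := fun y hy =>
    Cfsg.Agent.Block.regular_mem_of_index_pPow hKidx hy
  have hKn : (K.map N.subtype).Normal := by
    refine ⟨?_⟩
    rintro _ ⟨y, hy, rfl⟩ c
    refine ⟨⟨c * (y : ↥h.X) * c⁻¹, (inferInstance : N.Normal).conj_mem _ y.2 c⟩, hKreg _ ?_, rfl⟩
    rw [← Subgroup.orderOf_coe]
    show ¬ 2 ∣ orderOf (MulAut.conj c (y : ↥h.X))
    rw [MulEquiv.orderOf_eq, Subgroup.orderOf_coe]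
    exact fun h2 => hKodd (h2.trans (Subgroup.orderOf_dvd_natCard K hy))
  have hKle : K.map N.subtype ≤ Cfsg.pPrimeCore 2 ↥h.X := by
    refine Cfsg.Agent.Grp.le_pPrimeCore hKn ?_
    rw [← Nat.card_congr (K.equivMapOfInjective _ N.subtype_injective).toEquiv]
    exact ((Nat.prime_two.coprime_iff_not_dvd).2 hKodd).symm
  intro l hl
  refine ⟨⟨l, h.L_le_X hl⟩, hKle ⟨⟨⟨l, h.L_le_X hl⟩, hL (show (⟨l, h.L_le_X hl⟩ : ↥h.X) ∈ L.subgroupOf h.X from hl)⟩,
    hKreg _ ?_, rfl⟩, rfl⟩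
  rw [← Subgroup.orderOf_coe, Subgroup.orderOf_mk]
  exact fun h2 => h.odd2.odd (h2.trans (Subgroup.orderOf_dvd_natCard L hl))

theorem card_inf_cent_conj (R : Subgroup G) {g : G} (h1 : ∀ x ∈ R, g * x * g⁻¹ ∈ R)
    (h2 : ∀ x ∈ R, g⁻¹ * x * g ∈ R) {x y : G} (hxy : g * x * g⁻¹ = y) :
    Nat.card ↥(R ⊓ Subgroup.centralizer ({y} : Set G)) =
      Nat.card ↥(R ⊓ Subgroup.centralizer ({x} : Set G)) := by
  refine (Nat.card_congr ?_).symm
  refine
    { toFun := fun a => ⟨g * (a : G) * g⁻¹, Subgroup.mem_inf.2 ⟨h1 _ (Subgroup.mem_inf.1 a.2).1, ?_⟩⟩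
      invFun := fun a => ⟨g⁻¹ * (a : G) * g, Subgroup.mem_inf.2 ⟨h2 _ (Subgroup.mem_inf.1 a.2).1, ?_⟩⟩
      left_inv := fun a => Subtype.ext (by show g⁻¹ * (g * (a : G) * g⁻¹) * g = a; group)
      right_inv := fun a => Subtype.ext (by show g * (g⁻¹ * (a : G) * g) * g⁻¹ = a; group) }
  · refine mem_cent.2 ?_
    rw [← hxy]
    calc g * x * g⁻¹ * (g * (a : G) * g⁻¹) * (g * x * g⁻¹)⁻¹ = g * (x * (a : G) * x⁻¹) * g⁻¹ := by group
      _ = _ := by rw [mem_cent.1 (Subgroup.mem_inf.1 a.2).2]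
  · refine mem_cent.2 ?_
    calc x * (g⁻¹ * (a : G) * g) * x⁻¹ = g⁻¹ * ((g * x * g⁻¹) * (a : G) * (g * x * g⁻¹)⁻¹) * g := by group
      _ = _ := by rw [hxy, mem_cent.1 (Subgroup.mem_inf.1 a.2).2]

theorem Setup.normalizes_X (h : Setup S w τ L) {g : G}
    (hg : g ∈ Subgroup.normalizer (h.A : Set G)) {x : G} (hx : x ∈ h.X) : g * x * g⁻¹ ∈ h.X := by
  refine h.mem_X.2 fun a ha => ?_
  have h1 : g⁻¹ * a * g ∈ h.A := by
    have h2 := (Subgroup.mem_normalizer_iff.1 (inv_mem hg) a).1 ha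
    rwa [inv_inv] at h2
  calc a * (g * x * g⁻¹) = g * ((g⁻¹ * a * g) * x) * g⁻¹ := by group
    _ = _ := by rw [h.mem_X.1 hx _ h1]; group

/-- The core of `X` is normalised by the normalizer of `A`. -/
theorem Setup.normalizes_core (h : Setup S w τ L) {g : G}
    (hg : g ∈ Subgroup.normalizer (h.A : Set G)) {x : G}
    (hx : x ∈ (Cfsg.pPrimeCore 2 ↥h.X).map h.X.subtype) :
    g * x * g⁻¹ ∈ (Cfsg.pPrimeCore 2 ↥h.X).map h.X.subtype := by
  obtain ⟨y, hy, rfl⟩ := hx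
  let φ : ↥h.X ≃* ↥h.X :=
    { toFun := fun z => ⟨g * (z : G) * g⁻¹, h.normalizes_X hg z.2⟩
      invFun := fun z => ⟨g⁻¹ * (z : G) * g, by
        have h1 := h.normalizes_X (inv_mem hg) z.2
        rwa [inv_inv] at h1⟩
      left_inv := fun z => Subtype.ext (by group)
      right_inv := fun z => Subtype.ext (by group)
      map_mul' := fun z z' => Subtype.ext (by simp [mul_assoc]) }
  exact ⟨φ y, Subgroup.characteristic_iff_map_le.1 Cfsg.Agent.Grp.instCharPPrimeCore φ ⟨y, hy, rfl⟩, rfl⟩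

theorem Setup.w_mem_normalizer (h : Setup S w τ L) : w ∈ Subgroup.normalizer (h.A : Set G) := by
  refine Subgroup.mem_normalizer_iff.2 fun a => ⟨fun ha => ?_, fun ha => ?_⟩
  · rw [h.w_inv_A ha]; exact inv_mem ha
  · have h1 : w⁻¹ * (w * a * w⁻¹)⁻¹ * w = w * a * w⁻¹ := by
      conv_lhs => rw [← h.w_inv_A ha]
      group
    rw [show a = (w⁻¹ * (w * a * w⁻¹)⁻¹ * w)⁻¹ by group, h1]
    exact inv_mem ha

theorem Setup.X_le_normalizer (h : Setup S w τ L) : h.X ≤ Subgroup.normalizer (h.A : Set G) := by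
  intro x hx
  refine Subgroup.mem_normalizer_iff.2 fun a => ⟨fun ha => ?_, fun ha => ?_⟩
  · rw [show x * a * x⁻¹ = a by rw [← h.mem_X.1 hx a ha, mul_inv_cancel_right]]; exact ha
  · have h1 := h.mem_X.1 hx _ ha
    have h2 : x * a * x⁻¹ = a := by
      have h3 : x⁻¹ * ((x * a * x⁻¹) * x) = x⁻¹ * (x * (x * a * x⁻¹)) := by rw [h1]
      rw [inv_mul_cancel_left, show x⁻¹ * (x * a * x⁻¹ * x) = a by group] at h3
      exact h3.symm
    rwa [h2] at ha

theorem Setup.not_two_sided [IsSimpleGroup G] (h : Setup S w τ L)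
    (hA : 1 < fixA L τ) (hab : fixA L τ ≤ fixA L (w * τ)) : False := by
  classical
  haveI : Fact (Nat.Prime 2) := ⟨Nat.prime_two⟩
  obtain ⟨k, δ, u, v, hk, hδ, hsum, hg, huv, hu8, -, himp⟩ := h.exists_params
  obtain ⟨-, hu, -⟩ := himp hA
  obtain ⟨M, d₂, d₃, d₄, ε, hM, hε, hd2, hd3, hd4, hX, hcases⟩ := h.fixer_equation hA
  set a := fixA L τ with ha
  set b := fixA L (w * τ) with hb
  have haodd : Odd a := h.odd_A
  have ha3 : 3 ≤ a := by obtain ⟨r, hr⟩ := haodd; omega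
  rcases hcases with ⟨h2, h3⟩ | ⟨χ, hχB, hχ1, hχne, hχinv⟩
  · set N := Subgroup.normalizer (h.A : Set G) with hN
    have hlt : 2 * Nat.card ↥h.X ≤ Nat.card N := by
      obtain ⟨c, hc⟩ := Subgroup.card_dvd_of_le h.X_le_normalizer
      rcases c with _ | _ | c
      · rw [mul_zero] at hc; exact absurd hc Nat.card_pos.ne'
      · exfalso
        rw [zero_add, mul_one] at hc
        exact h.w_notMem_X hA ((Subgroup.eq_of_le_of_card_ge h.X_le_normalizer hc.le).symm ▸ h.w_mem_normalizer)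
      · rw [hN, hc, mul_comm 2]; exact Nat.mul_le_mul_left _ (by omega)
    have hN1 : N ≠ ⊤ := by
      intro e
      haveI : h.A.Normal := Subgroup.normalizer_eq_top_iff.1 e
      rcases (inferInstance : h.A.Normal).eq_bot_or_eq_top with e1 | e1
      · have : Nat.card h.A = 1 := by rw [e1, Subgroup.card_bot]
        exact absurd this (by show a ≠ 1; omega)
      · have h1 : w ^ 2 ∈ h.A := e1 ▸ Subgroup.mem_top _
        have h4 := Subgroup.orderOf_dvd_natCard _ h1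
        rw [h.ot] at h4
        exact Nat.not_even_iff_odd.2 h.odd_A (even_iff_two_dvd.2 h4)
    obtain ⟨h7, hbig⟩ := index_small (a := (a : ℤ)) (b := (b : ℤ)) (k := k) (δ := δ)
      (g := Nat.card G) (X := Nat.card ↥h.X) (N := Nat.card N) (i := N.index)
      (B := 1 + 1 / (d₂ : ℚ) + (ε : ℚ) / (d₃ : ℚ) - 1 / (d₄ : ℚ)) (by omega) (by omega)
      (by exact_mod_cast hab) hk hδ hg (by exact_mod_cast hX) (bracket_le hε h2 h3 hd3 hd4) hlt
      N.index_mul_card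
    have hi2 : 2 ≤ N.index := by
      rcases Nat.lt_or_ge N.index 2 with h1 | h1
      · exfalso
        have := N.index_ne_zero_of_finite
        exact hN1 (Subgroup.index_eq_one.1 (by omega))
      · exact h1
    have h1 := hbig hi2
    have h4 := Cfsg.Agent.Fus.card_dvd_factorial_index hN1
    have h5 := Nat.le_of_dvd (Nat.factorial_pos _) h4
    have h6 : N.index.factorial ≤ 5040 := (Nat.factorial_le h7).trans (by norm_num [Nat.factorial])
    omega
  · have hNn : (charKer (IsIrr.isCharacter χ.2)).Normal := MonoidHom.normal_ker _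
    set N := charKer (IsIrr.isCharacter χ.2) with hN
    obtain ⟨P, hP⟩ := h.exists_sylow_X hA
    set t' : ↥h.X := ⟨w ^ 2, h.four_le_X h.t_mem_four⟩ with ht'
    have ht : orderOf t' = 2 := by rw [ht', Subgroup.orderOf_mk]; exact h.ot
    have hV : h.four.subgroupOf h.X ≤ N := by
      intro x hx
      by_cases hx1 : x = 1
      · rw [hx1]; exact one_mem _
      refine (mem_charKer _).2 ?_
      rw [hχ1]
      refine hχinv x (orderOf_eq_prime ?_ hx1)
      rw [pow_two]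
      haveI := h.four_klein
      exact congrArg Subtype.val (IsKleinFour.mul_self (⟨x, hx⟩ : ↥(h.four.subgroupOf h.X)))
    have hL : L.subgroupOf h.X ≤ N := by
      intro x hx
      refine (mem_charKer _).2 ?_
      rw [hχ1]
      obtain ⟨K, hKn, hK, hKi⟩ := Cfsg.Agent.Block.klein_centralizer_complement P
        (by rw [hP]; exact h.four_klein)
        (z := t') (by rw [hP]; exact Subgroup.mem_subgroupOf.2 h.t_mem_four)
        (fun e => by rw [e, orderOf_one] at ht; omega)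
      have hxC : x ∈ Subgroup.centralizer ({t'} : Set ↥h.X) := (h.odd2_X hA).le hx
      have hodd : ¬ 2 ∣ orderOf (⟨x, hxC⟩ : Subgroup.centralizer ({t'} : Set ↥h.X)) := by
        rw [Subgroup.orderOf_mk]
        intro h2
        exact (h.odd2_X hA).odd (h2.trans (Subgroup.orderOf_dvd_natCard _ hx))
      have h1 := Cfsg.Agent.Block.principal_section_const hM (z := t') ⟨1, by rw [ht, pow_one]⟩ hK hodd
        (Cfsg.Agent.Block.regular_mem_of_index_pPow hKi hodd) hχB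
      have h2 : (χ : ↥h.X → ℂ) (t' * x) = (χ : ↥h.X → ℂ) x :=
        char_mul_ker (IsIrr.isCharacter χ.2) (by rw [hχ1, hχinv t' ht]) x
      rw [h2, hχinv t' ht] at h1
      exact h1
    have hNtop : N ≠ ⊤ := by
      intro e
      refine hχne (funext fun x => ?_)
      rw [(mem_charKer (IsIrr.isCharacter χ.2)).1 (by rw [← hN, e]; exact Subgroup.mem_top x), hχ1]
    have hLR := h.fixer_core hA N hNtop hV hL
    set R := (Cfsg.pPrimeCore 2 ↥h.X).map h.X.subtype with hR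
    have hRodd : Odd (Nat.card R) := by
      rw [hR, ← Nat.card_congr ((Cfsg.pPrimeCore 2 ↥h.X).equivMapOfInjective _ h.X.subtype_injective).toEquiv]
      exact Nat.coprime_two_right.1 Cfsg.Agent.Grp.pPrimeCore_coprime
    have hnX : ∀ g ∈ h.X, ∀ x ∈ R, g * x * g⁻¹ ∈ R := fun g hg x hx =>
      h.normalizes_core (h.X_le_normalizer hg) hx
    have hnX' : ∀ g ∈ h.X, ∀ x ∈ R, g⁻¹ * x * g ∈ R := fun g hg x hx => by
      have := hnX g⁻¹ (inv_mem hg) x hx
      rwa [inv_inv] at this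
    have hRt : R ⊓ Subgroup.centralizer ({w ^ 2} : Set G) = L := by
      refine le_antisymm (fun x hx => ?_) (le_inf hLR h.odd2.le)
      obtain ⟨hxR, hxC⟩ := Subgroup.mem_inf.1 hx
      exact h.mem_L_of_odd hxC (hRodd.of_dvd_nat (Subgroup.orderOf_dvd_natCard R hxR))
    obtain ⟨ρ, hρ, hρ1, hρ2⟩ := h.exists_cycle
    have hτX := h.four_le_X h.tau_mem_four
    have htX := h.four_le_X h.t_mem_four
    have htt : w ^ 2 * w ^ 2 = 1 := by rw [pow_two]; exact h.w_four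
    have c1 : Nat.card ↥(R ⊓ Subgroup.centralizer ({τ} : Set G)) = Nat.card L := by
      rw [card_inf_cent_conj R (hnX ρ hρ) (hnX' ρ hρ) hρ1, hRt]
    have c2 : Nat.card ↥(R ⊓ Subgroup.centralizer ({w ^ 2 * τ} : Set G)) = Nat.card L := by
      rw [card_inf_cent_conj R (hnX ρ hρ) (hnX' ρ hρ) hρ2, c1]
    have e1 := card_four_fixed R hRodd htt h.tau_sq h.tau_comm.symm (hnX _ htX) (hnX _ hτX)
    rw [hRt, c1, c2] at e1
    have hRcard : Nat.card R = a * b ^ 3 := by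
      have h5 : Nat.card L = a * b := h.card_L
      rw [h5] at e1
      change Nat.card R * a ^ 2 = _ at e1
      refine Nat.eq_of_mul_eq_mul_right (show 0 < a ^ 2 by positivity) (e1.trans ?_)
      ring
    set σ := w * τ with hσ
    have hσN : σ ∈ Subgroup.normalizer (h.A : Set G) :=
      mul_mem h.w_mem_normalizer (h.X_le_normalizer hτX)
    have hσσ : σ * σ = 1 := h.swap.tau_sq
    have hcom : w ^ 2 * σ = σ * w ^ 2 := h.swap.tau_comm.symm
    have e2 := card_four_fixed R hRodd htt hσσ hcom (hnX _ htX) (fun x hx => h.normalizes_core hσN hx)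
    have hconj : τ * σ * τ⁻¹ = w ^ 2 * σ := by
      calc τ * σ * τ⁻¹ = (τ * w * τ⁻¹) * τ := by rw [hσ]; group
        _ = w ^ 3 * τ := by
          rw [h.rel]
          congr 1
          refine inv_eq_of_mul_eq_one_right ?_
          rw [← pow_succ', show 3 + 1 = 2 * 2 from rfl, pow_mul, pow_two (w ^ 2), htt]
        _ = _ := by rw [hσ, ← mul_assoc, ← pow_succ]
    rw [card_inf_cent_conj R (hnX τ hτX) (hnX' τ hτX) hconj, hRt, hRcard] at e2
    set c := Nat.card ↥(R ⊓ Subgroup.centralizer ({σ} : Set G)) with hc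
    change a * b ^ 3 * b ^ 2 = _ at e2
    rw [h.card_L] at e2
    change a * b ^ 3 * b ^ 2 = a * b * c * c at e2
    have hb0 : 0 < b := Nat.card_pos
    have hc2 : c = b ^ 2 := by
      have h5 : (b ^ 2) * (b ^ 2) = c * c :=
        Nat.eq_of_mul_eq_mul_left (show 0 < a * b from Nat.mul_pos (by omega) hb0) (by linarith)
      exact (Nat.mul_self_inj.1 h5).symm
    have hcC : c ∣ Nat.card L * 8 := by
      obtain ⟨g, hg⟩ := isConj_iff.1 (h.one σ h.swap.otau)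
      have h5 := card_inf_cent_conj (⊤ : Subgroup G) (g := g) (fun _ _ => Subgroup.mem_top _)
        (fun _ _ => Subgroup.mem_top _) hg
      rw [top_inf_eq, top_inf_eq, h.card_centralizer] at h5
      rw [← h5]
      exact Subgroup.card_dvd_of_le inf_le_right
    rw [hc2, h.card_L] at hcC
    change b ^ 2 ∣ a * b * 8 at hcC
    have hbodd : Odd b := h.swap.odd_A
    have hb8 : Nat.Coprime (b ^ 2) 8 := by
      have : Nat.Coprime b 2 := Nat.coprime_two_right.2 hbodd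
      exact (this.pow_right 3).pow_left 2
    have h6 : b ∣ a := by
      have := hb8.dvd_of_dvd_mul_right hcC
      rw [pow_two] at this
      exact Nat.dvd_of_mul_dvd_mul_right hb0 this
    have hab' : a = b := le_antisymm hab (Nat.le_of_dvd (by omega) h6)
    obtain ⟨m, hm⟩ := Subgroup.card_subgroup_dvd_card R
    rw [hRcard, ← hab'] at hm
    rw [← hab'] at huv hg
    refine equal_case (a := (a : ℤ)) (m := (m : ℤ)) (by omega) hk hδ hsum ?_ ?_ hu8 hu
    · linear_combination huv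
    · rw [hm] at hg
      push_cast at hg
      linear_combination hg

end Cfsg.Agent.Invol.SmallCent
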